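import Cfsg.Agent.H493.Sep.RowLy_m3
import Cfsg.Agent.H51.Rad3.Ly
import Cfsg.Agent.H995.CopCoprime
import Cfsg.Agent.OrdDiv.Table
import Cfsg.Agent.FastGrp
import Cfsg.Agent.Prune
set_option linter.all false
prune_inst 0x7f00000000000000000000000000000000000000000000000000000000000000000000000000000000000000000000000000000000000000000000000000000000000000000000000000000000000000003fffffffffffffffffffffffffffbeffbdffffffff
open scoped Cfsg.Agent.FastGrp

/-!
# The Lyons group: elements of order 37 have centralizer of order 37 (helper655)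

* `card_le_ker_cube` : `|A| ≤ |ker T| ^ 3` if `T ^ 3 = 1`;
* `dvd_27` : an element of order 3 normalizing an elementary abelian group of order at least `3 ^ 5` has a centralizer
  of order divisible by 27;
* `cent_three` : the centralizers of the elements of order 3 of `Ly`;
* `card_centralizer37`.
-/

set_option autoImplicit false
set_option maxRecDepth 100000

namespace Cfsg.Agent.H655.LyThirtySeven

open Subgroup Cfsg

universe u

/-- nilpotent endomorphisms of index 3 -/
theorem card_le_ker_cube {A : Type*} [Group A] [Finite A] (T : A →* A) (h : ∀ a, T (T (T a)) = 1) :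
    Nat.card A ≤ Nat.card T.ker ^ 3 := by
  have h1 : Nat.card A = Nat.card T.ker * Nat.card T.range := by
    rw [← index_ker, card_mul_index]
  set f : T.range →* A := T.comp T.range.subtype with hf
  have h2 : Nat.card T.range = Nat.card f.ker * Nat.card f.range := by
    rw [← index_ker f, card_mul_index]
  have h3 : Nat.card f.ker ≤ Nat.card T.ker := by
    refine Nat.card_le_card_of_injective (fun x : f.ker => (⟨((x : T.range) : A), x.2⟩ : T.ker)) fun x y hxy => ?_
    have := congrArg Subtype.val hxy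
    exact Subtype.ext (Subtype.ext this)
  have h4 : Nat.card f.range ≤ Nat.card T.ker := by
    refine card_le_of_le ?_
    rintro _ ⟨⟨_, a, rfl⟩, rfl⟩
    exact h a
  rw [h1, h2, pow_succ, pow_two]
  calc Nat.card T.ker * (Nat.card f.ker * Nat.card f.range)
      ≤ Nat.card T.ker * (Nat.card T.ker * Nat.card T.ker) := Nat.mul_le_mul_left _ (Nat.mul_le_mul h3 h4)
    _ = Nat.card T.ker * Nat.card T.ker * Nat.card T.ker := by ring

theorem ident' {A : Type*} [CommGroup A] (a b c : A) :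
    (a * c⁻¹) * (c * b⁻¹)⁻¹ * ((c * b⁻¹) * (b * a⁻¹)⁻¹)⁻¹ = (c ^ 3)⁻¹ * b ^ 3 := by
  apply Additive.ofMul.injective
  simp only [ofMul_mul, ofMul_inv, ofMul_pow]
  abel

theorem ident {A : Type*} [Group A] (h : ∀ u v : A, u * v = v * u) (a b c : A) :
    (a * c⁻¹) * (c * b⁻¹)⁻¹ * ((c * b⁻¹) * (b * a⁻¹)⁻¹)⁻¹ = (c ^ 3)⁻¹ * b ^ 3 :=
  @ident' A { (inferInstance : Group A) with mul_comm := h } a b c

section three

variable {X : Type*} [Group X] [Finite X]

theorem dvd_27 {E : Subgroup X} (h3 : ∀ x ∈ E, x ^ 3 = 1) (hc : ∀ x ∈ E, ∀ y ∈ E, x * y = y * x)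
    (h5 : 3 ^ 5 ∣ Nat.card E) {y : X} (hy : orderOf y = 3) (hyE : y ∈ normalizer (E : Set X)) :
    27 ∣ Nat.card (centralizer ({y} : Set X)) := by
  have hP : Fact (Nat.Prime 3) := ⟨Nat.prime_three⟩
  by_cases hyin : y ∈ E
  · have h6 : E ≤ centralizer ({y} : Set X) := fun x hx => mem_centralizer_singleton_iff.2 (hc x hx y hyin)
    exact ((by norm_num : 27 ∣ 3 ^ 5).trans h5).trans (card_dvd_of_le h6)
  have hN : ∀ x ∈ E, y * x * y⁻¹ ∈ E := fun x hx => (mem_normalizer_iff.1 hyE x).1 hx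
  have hy3 : y ^ 3 = 1 := by rw [← hy, pow_orderOf_eq_one]
  let T : E →* E :=
    { toFun := fun a => ⟨y * a * y⁻¹ * (a : X)⁻¹, E.mul_mem (hN a a.2) (E.inv_mem a.2)⟩
      map_one' := Subtype.ext (by simp)
      map_mul' := by
        intro a b
        apply Subtype.ext
        show y * (a * b : X) * y⁻¹ * (a * b : X)⁻¹ = y * a * y⁻¹ * (a : X)⁻¹ * (y * b * y⁻¹ * (b : X)⁻¹)
        have e1 := hc (y * b * y⁻¹) (hN b b.2) _ (E.inv_mem a.2)
        calc y * (a * b : X) * y⁻¹ * (a * b : X)⁻¹ = (y * a * y⁻¹) * (y * b * y⁻¹) * ((b : X)⁻¹ * (a : X)⁻¹) := by group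
          _ = (y * a * y⁻¹) * (y * b * y⁻¹) * ((a : X)⁻¹ * (b : X)⁻¹) := by
              rw [hc _ (E.inv_mem b.2) _ (E.inv_mem a.2)]
          _ = (y * a * y⁻¹) * ((y * b * y⁻¹) * (a : X)⁻¹) * (b : X)⁻¹ := by group
          _ = (y * a * y⁻¹) * ((a : X)⁻¹ * (y * b * y⁻¹)) * (b : X)⁻¹ := by rw [e1]
          _ = y * a * y⁻¹ * (a : X)⁻¹ * (y * b * y⁻¹ * (b : X)⁻¹) := by group }
  have hT : ∀ a : E, ((T a : E) : X) = y * a * y⁻¹ * (a : X)⁻¹ := fun a => rfl
  have hT3 : ∀ a, T (T (T a)) = 1 := by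
    intro a
    apply Subtype.ext
    -- `b = y a y⁻¹`, `c = y² a y⁻²`
    obtain ⟨b, hb⟩ : ∃ b : E, (b : X) = y * a * y⁻¹ := ⟨⟨_, hN a a.2⟩, rfl⟩
    obtain ⟨c, hcc⟩ : ∃ c : E, (c : X) = y * b * y⁻¹ := ⟨⟨_, hN b b.2⟩, rfl⟩
    have ha : (a : X) = y * c * y⁻¹ := by
      calc (a : X) = y ^ 3 * a * (y ^ 3)⁻¹ := by rw [hy3]; simp
        _ = y * (y * (y * (a : X) * y⁻¹) * y⁻¹) * y⁻¹ := by
            simp only [pow_succ, pow_zero, one_mul, mul_inv_rev, mul_assoc]
        _ = y * c * y⁻¹ := by rw [← hb, ← hcc]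
    have e1 : T a = b * a⁻¹ := Subtype.ext (by rw [hT, ← hb]; rfl)
    have e2 : T b = c * b⁻¹ := Subtype.ext (by rw [hT, ← hcc]; rfl)
    have e3 : T c = a * c⁻¹ := Subtype.ext (by rw [hT, ← ha]; rfl)
    have hcE : ∀ u v : E, u * v = v * u := fun u v => Subtype.ext (hc u u.2 v v.2)
    have h3E : ∀ u : E, u ^ 3 = 1 := fun u => Subtype.ext (h3 u u.2)
    have e4 : T (T a) = c * b⁻¹ * (b * a⁻¹)⁻¹ := by rw [e1, map_mul, map_inv, e2, e1]
    have e5 : T (T (T a)) = (a * c⁻¹) * (c * b⁻¹)⁻¹ * ((c * b⁻¹) * (b * a⁻¹)⁻¹)⁻¹ := by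
      rw [e4, map_mul, map_mul, map_inv, map_inv, map_mul, map_inv, e3, e2, e1]
    have e6 : (a * c⁻¹) * (c * b⁻¹)⁻¹ * ((c * b⁻¹) * (b * a⁻¹)⁻¹)⁻¹ = (c ^ 3)⁻¹ * b ^ 3 := ident hcE a b c
    rw [e5, e6, h3E, h3E, inv_one, one_mul]
  have hk := card_le_ker_cube T hT3
  set C : Subgroup X := E ⊓ centralizer ({y} : Set X) with hC
  have hCk : Nat.card T.ker = Nat.card C := by
    refine Nat.card_congr
      { toFun := fun a => ⟨((a : E) : X), ⟨(a : E).2, mem_centralizer_singleton_iff.2 ?_⟩⟩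
        invFun := fun c => ⟨⟨c, c.2.1⟩, ?_⟩
        left_inv := fun _ => rfl
        right_inv := fun _ => rfl }
    · have h6 : y * (a : E) * y⁻¹ * ((a : E) : X)⁻¹ = 1 := congrArg Subtype.val a.2
      have h7 : y * (a : E) * y⁻¹ = ((a : E) : X) := mul_inv_eq_one.1 h6
      exact (mul_inv_eq_iff_eq_mul.1 h7).symm
    · apply Subtype.ext
      have h6 : (c : X) * y = y * c := mem_centralizer_singleton_iff.1 c.2.2
      show y * (c : X) * y⁻¹ * (c : X)⁻¹ = 1
      rw [← h6, mul_inv_cancel_right, mul_inv_cancel]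
  have hPE : IsPGroup 3 E := fun x => ⟨1, Subtype.ext (by rw [pow_one]; exact h3 x x.2)⟩
  have hPC : IsPGroup 3 C := hPE.to_le inf_le_left
  have h9 : 9 ∣ Nat.card C := by
    obtain ⟨k, hk'⟩ := IsPGroup.iff_card.1 hPC
    have h6 : 3 ^ 5 ≤ Nat.card C ^ 3 := (Nat.le_of_dvd Nat.card_pos h5).trans (hCk ▸ hk)
    rw [hk'] at h6 ⊢
    have h7 : 2 ≤ k := by
      by_contra hcon
      have h8 : k ≤ 1 := by omega
      have h9 : (3 : ℕ) ^ k ≤ 3 ^ 1 := Nat.pow_le_pow_right (by norm_num) h8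
      have h10 : ((3 : ℕ) ^ k) ^ 3 ≤ (3 ^ 1) ^ 3 := Nat.pow_le_pow_left h9 3
      have := h6.trans h10
      norm_num at this
    exact (pow_dvd_pow 3 h7 : 3 ^ 2 ∣ 3 ^ k)
  -- the subgroup `C × ⟨y⟩`
  have hcomm : ∀ c ∈ C, ∀ z ∈ zpowers y, c * z = z * c := by
    rintro c hc _ ⟨i, rfl⟩
    exact ((show Commute c y from mem_centralizer_singleton_iff.1 hc.2).zpow_right i).eq
  have hdis : ∀ c ∈ C, c ∈ zpowers y → c = 1 := by
    intro c hcC hcy
    by_contra hne
    apply hyin
    have h6 : orderOf (⟨c, hcy⟩ : zpowers y) = 3 := by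
      have h7 := orderOf_dvd_natCard (⟨c, hcy⟩ : zpowers y)
      rw [Nat.card_zpowers, hy] at h7
      rcases (Nat.dvd_prime Nat.prime_three).1 h7 with h8 | h8
      · exact absurd (congrArg Subtype.val (orderOf_eq_one_iff.1 h8)) hne
      · exact h8
    have h7 : zpowers c = zpowers y := by
      apply eq_of_le_of_card_ge (zpowers_le.2 hcy)
      rw [Nat.card_zpowers, Nat.card_zpowers, hy, ← h6, orderOf_mk]
    have h8 : y ∈ zpowers c := by rw [h7]; exact mem_zpowers y
    exact (zpowers_le.2 hcC.1) h8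
  let f : C × zpowers y →* centralizer ({y} : Set X) :=
    { toFun := fun a => ⟨a.1 * a.2, mul_mem a.1.2.2 (by
        obtain ⟨i, hi⟩ := a.2.2
        rw [← hi]
        exact mem_centralizer_singleton_iff.2 ((Commute.refl y).zpow_left i).eq)⟩
      map_one' := Subtype.ext (by simp)
      map_mul' := by
        rintro ⟨a, b⟩ ⟨a', b'⟩
        apply Subtype.ext
        show (a * a' : X) * (b * b' : X) = (a * b : X) * (a' * b' : X)
        have h6 := hcomm a' a'.2 b b.2
        calc (a * a' : X) * (b * b' : X) = a * (a' * b) * b' := by group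
          _ = a * (b * a') * b' := by rw [h6]
          _ = (a * b : X) * (a' * b' : X) := by group }
  have hf : Function.Injective f := by
    rw [injective_iff_map_eq_one]
    rintro ⟨⟨a, ha⟩, ⟨b, hb⟩⟩ hab
    have h6 : a * b = 1 := congrArg Subtype.val hab
    have h7 : a = b⁻¹ := eq_inv_of_mul_eq_one_left h6
    have h8 : a = 1 := hdis a ha (by rw [h7]; exact inv_mem hb)
    have h9 : b = 1 := by rw [h8, one_mul] at h6; exact h6
    subst h8 h9
    rfl
  have h10 : Nat.card (C × zpowers y) = Nat.card f.range := Nat.card_congr (MonoidHom.ofInjective hf).toEquiv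
  have h11 : 27 ∣ Nat.card (C × zpowers y) := by
    rw [Nat.card_prod, Nat.card_zpowers, hy]
    exact Nat.mul_dvd_mul h9 (dvd_refl 3)
  rw [h10] at h11
  exact h11.trans (card_subgroup_dvd_card _)

end three

/-! ### The Lyons group -/

open Cfsg.Agent.H51.Rad3.Ly in
/-- the centralizers of the elements of order 3 -/
theorem cent_three {y : Spor.Ly} (hy : orderOf y = 3) : 27 ∣ Nat.card (centralizer ({y} : Set Spor.Ly)) := by
  have hfin := finite_ly
  have : Fact (Nat.Prime 3) := ⟨Nat.prime_three⟩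
  let P : Sylow 3 Spor.Ly := isPGroup_P.toSylow index_P
  have hxp : IsPGroup 3 ↥(zpowers y) := IsPGroup.of_card (n := 1) (by rw [Nat.card_zpowers, hy, pow_one])
  obtain ⟨P', hP'⟩ := hxp.exists_le_sylow
  obtain ⟨c, hc⟩ := MulAction.exists_smul_eq Spor.Ly P' P
  have h4 : c * y * c⁻¹ ∈ (P : Subgroup Spor.Ly) := by
    rw [← hc, Sylow.coe_subgroup_smul]
    exact smul_mem_pointwise_smul y (MulAut.conj c) _ (hP' (mem_zpowers y))
  have h5 : c * y * c⁻¹ ∈ U ⊔ E := h4
  have h6 : 3 ^ 5 ∣ Nat.card E := by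
    refine Cfsg.Agent.H51.LyThreeGrp.pow_five_dvd E_props.1 g11 (fun x hx => (mem_normalizer_iff.1 g_norm x).1 hx)
      (y := Cfsg.Agent.H51.LyThree.e 0) (Cfsg.Agent.H51.LyThree.mem_e 0 (by norm_num)) ?_
    intro h
    apply Cfsg.Agent.H51.LyThree.e1_ne
    rw [e_succ, mul_assoc, ← h, inv_mul_cancel_left]
  have h7 : orderOf (c * y * c⁻¹) = 3 := by
    rw [← hy]
    exact orderOf_injective (MulAut.conj c).toMonoidHom (MulAut.conj c).injective y
  have h8 := dvd_27 E_props.1 E_props.2 h6 h7 (P_le h5)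
  have h9 : Nat.card (centralizer ({c * y * c⁻¹} : Set Spor.Ly)) = Nat.card (centralizer ({y} : Set Spor.Ly)) := by
    have h10 : (centralizer ({y} : Set Spor.Ly)).map (MulAut.conj c).toMonoidHom =
        centralizer ({c * y * c⁻¹} : Set Spor.Ly) := by
      ext x
      rw [mem_map, mem_centralizer_singleton_iff]
      constructor
      · rintro ⟨z, hz, rfl⟩
        have hz' : z * y = y * z := mem_centralizer_singleton_iff.1 hz
        show c * z * c⁻¹ * (c * y * c⁻¹) = c * y * c⁻¹ * (c * z * c⁻¹)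
        calc c * z * c⁻¹ * (c * y * c⁻¹) = c * (z * y) * c⁻¹ := by group
          _ = c * (y * z) * c⁻¹ := by rw [hz']
          _ = c * y * c⁻¹ * (c * z * c⁻¹) := by group
      · intro hx
        refine ⟨c⁻¹ * x * c, mem_centralizer_singleton_iff.2 ?_, ?_⟩
        · calc c⁻¹ * x * c * y = c⁻¹ * (x * (c * y * c⁻¹)) * c := by group
            _ = c⁻¹ * ((c * y * c⁻¹) * x) * c := by rw [hx]
            _ = y * (c⁻¹ * x * c) := by group
        · show c * (c⁻¹ * x * c) * c⁻¹ = x
          group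
    rw [← h10, card_map_of_injective (MulAut.conj c).injective]
  rwa [h9] at h8

open Cfsg.Agent.H940.Eng Cfsg.Agent.H940.Eng.D Cfsg.Agent.H493.Sep.LyLoc in
/-- **Elements of order 37 of `Ly`.** -/
theorem cent_ly (hK : H995.CopEngine.AllKnown.{0}) {x : Spor.Ly} (hx : orderOf x = 37) :
    Nat.card (centralizer ({x} : Set Spor.Ly)) = 37 := by
  have hfin := fin
  have B : Base := ⟨OrdDiv.table, fun S _ _ hs => hK S⟩
  have hR : Nat.card (zpowers x) = 37 := by rw [Nat.card_zpowers, hx]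
  have I := isol37 B
  obtain ⟨hC, hN⟩ := (loc37 B).2.2.2 (zpowers x) hR
  have hcc : centralizer ((zpowers x : Subgroup Spor.Ly) : Set Spor.Ly) = centralizer ({x} : Set Spor.Ly) := by
    apply le_antisymm
    · exact centralizer_le (fun z hz => by rw [Set.mem_singleton_iff.1 hz]; exact mem_zpowers x)
    · intro g hg
      rw [mem_centralizer_iff]
      rintro _ ⟨i, rfl⟩
      exact ((show Commute g x from mem_centralizer_singleton_iff.1 hg).zpow_right i).eq.symm
  rw [hcc] at hC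
  have h37 : 37 ∣ Nat.card (centralizer ({x} : Set Spor.Ly)) := by
    have h1 := orderOf_dvd_natCard (⟨x, mem_centralizer_singleton_iff.2 rfl⟩ : centralizer ({x} : Set Spor.Ly))
    rwa [orderOf_mk, hx] at h1
  have h3 : ¬ 3 ∣ Nat.card (centralizer ({x} : Set Spor.Ly)) := by
    intro h3
    have : Fact (Nat.Prime 3) := ⟨Nat.prime_three⟩
    obtain ⟨y, hy⟩ := exists_prime_orderOf_dvd_card' 3 h3
    have hy' : orderOf (y : Spor.Ly) = 3 := by rw [orderOf_coe, hy]
    have hyx : (y : Spor.Ly) * x = x * y := mem_centralizer_singleton_iff.1 y.2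
    have h4 : centralizer ({(y : Spor.Ly)} : Set Spor.Ly) ≤ normalizer ((zpowers x : Subgroup Spor.Ly) : Set Spor.Ly) := by
      refine I.iso (zpowers x) _ hR (zpowers_le.2 (mem_centralizer_singleton_iff.2 hyx.symm)) ?_
      intro ht
      have h5 : (y : Spor.Ly) ∈ center Spor.Ly := by
        rw [mem_center_iff]
        intro g
        exact mem_centralizer_singleton_iff.1 (show g ∈ centralizer ({(y : Spor.Ly)} : Set Spor.Ly) by
          rw [ht]; exact mem_top g)
      rw [H51.Rad3.Ly.center_bot, mem_bot] at h5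
      rw [h5, orderOf_one] at hy'
      norm_num at hy'
    have h5 := (cent_three hy').trans ((card_dvd_of_le h4).trans hN)
    revert h5
    decide +kernel
  obtain ⟨m, hm⟩ := h37
  have h6 : m ∣ 9 := by
    have h7 : 37 * m ∣ 37 * 9 := by rw [← hm]; exact hC
    exact Nat.dvd_of_mul_dvd_mul_left (by norm_num) h7
  have h7 : ¬ 3 ∣ m := fun h => h3 (hm ▸ h.mul_left 37)
  have h8 : m = 1 := by
    have h9 : m ∣ 3 ^ 2 := h6
    obtain ⟨k, hk, rfl⟩ := (Nat.dvd_prime_pow Nat.prime_three).1 h9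
    rcases Nat.eq_zero_or_pos k with rfl | hk0
    · rfl
    · exact absurd (dvd_pow_self 3 hk0.ne') h7
  rw [hm, h8, mul_one]

/-- **Elements of order 37 of the Lyons group have centralizer of order 37.** -/
theorem card_centralizer37 (hK : H995.CopEngine.AllKnown.{0}) {G : Type u} [Group G] (h : Spor.IsoLy G) {x : G}
    (hx : orderOf x = 37) : Nat.card (centralizer ({x} : Set G)) = 37 := by
  obtain ⟨e⟩ := h
  have h1 : orderOf (e x) = 37 := by
    rw [← hx]
    exact orderOf_injective e.toMonoidHom e.injective x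
  rw [← cent_ly hK h1]
  refine Nat.card_congr
    { toFun := fun g => ⟨e g, mem_centralizer_singleton_iff.2 ?_⟩
      invFun := fun g => ⟨e.symm g, mem_centralizer_singleton_iff.2 ?_⟩
      left_inv := fun g => Subtype.ext (e.symm_apply_apply g)
      right_inv := fun g => Subtype.ext (e.apply_symm_apply g) }
  · rw [← map_mul, ← map_mul, mem_centralizer_singleton_iff.1 g.2]
  · apply e.injective
    rw [map_mul, map_mul, e.apply_symm_apply]
    exact mem_centralizer_singleton_iff.1 g.2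

end Cfsg.Agent.H655.LyThirtySeven
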