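import Mathlib
set_option linter.all false

/-!
# Perfect groups with a non-normal Sylow subgroup of prime order

* `le_center_of_isCyclic` : a cyclic normal subgroup of a perfect group is central;
* `exists_section` : `G` perfect, `P` a Sylow `p`-subgroup of order `p`: there are a normal subgroup `M` of `G`
  and a normal subgroup `N` of `M` of order prime to `p`, normal in `G`, with `M / N` simple non-cyclic.
-/

set_option autoImplicit false

namespace Cfsg.Agent.H655.PrimeNormal

open Subgroup
open scoped commutatorElement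

universe u

variable {G : Type u} [Group G]

/-- A cyclic normal subgroup of a perfect group is central. -/
theorem le_center_of_isCyclic (hperf : commutator G = ⊤) (A : Subgroup G) (hA : A.Normal)
    (hc : IsCyclic A) : A ≤ center G := by
  obtain ⟨⟨g0, hg0A⟩, hg0⟩ := hc.exists_generator
  have hpow : ∀ x : G, ∃ k : ℤ, x * g0 * x⁻¹ = g0 ^ k := by
    intro x
    obtain ⟨k, hk⟩ := hg0 ⟨x * g0 * x⁻¹, hA.conj_mem g0 hg0A x⟩
    exact ⟨k, (congrArg Subtype.val hk).symm⟩
  have hall : ∀ x : G, ∃ k : ℤ, ∀ a ∈ A, x * a * x⁻¹ = a ^ k := by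
    intro x
    obtain ⟨k, hk⟩ := hpow x
    refine ⟨k, fun a ha => ?_⟩
    obtain ⟨m, hm⟩ := hg0 ⟨a, ha⟩
    have hm' : g0 ^ m = a := congrArg Subtype.val hm
    rw [← hm', ← conj_zpow, hk, ← zpow_mul, ← zpow_mul, mul_comm]
  -- the centralizer of `A` contains all commutators
  have hcent : commutator G ≤ centralizer (A : Set G) := by
    rw [commutator_def, Subgroup.commutator_le]
    intro x _ y _
    rw [mem_centralizer_iff]
    intro a ha
    obtain ⟨k, hk⟩ := hall x
    obtain ⟨l, hl⟩ := hall y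
    have h1 : ∀ b ∈ A, x * (y * b * y⁻¹) * x⁻¹ = y * (x * b * x⁻¹) * y⁻¹ := by
      intro b hb
      rw [hl b hb, hk _ (A.zpow_mem hb l), hk b hb, hl _ (A.zpow_mem hb k), ← zpow_mul, ← zpow_mul,
        mul_comm]
    -- put `b = (y x)⁻¹ a (y x)`
    have hb : (y * x)⁻¹ * a * (y * x) ∈ A := by
      have := hA.conj_mem a ha (y * x)⁻¹
      rwa [inv_inv] at this
    have h2 := h1 _ hb
    have h3 : y * (x * ((y * x)⁻¹ * a * (y * x)) * x⁻¹) * y⁻¹ = a := by group
    rw [h3] at h2
    have h4 : ⁅x, y⁆ * a = a * ⁅x, y⁆ := by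
      rw [commutatorElement_def]
      have h5 : x * (y * ((y * x)⁻¹ * a * (y * x)) * y⁻¹) * x⁻¹ =
          (x * y * x⁻¹ * y⁻¹) * a * (x * y * x⁻¹ * y⁻¹)⁻¹ := by group
      rw [h5] at h2
      exact mul_inv_eq_iff_eq_mul.1 h2
    exact h4.symm
  rw [hperf] at hcent
  intro a ha
  rw [mem_center_iff]
  intro g
  have := hcent (mem_top g)
  rw [mem_centralizer_iff] at this
  exact (this a ha).symm

/-- Every finite nontrivial group has a simple quotient. -/
theorem exists_simple_quotient (M : Type*) [Group M] [Finite M] [Nontrivial M] :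
    ∃ (N : Subgroup M) (_ : N.Normal), IsSimpleGroup (M ⧸ N) := by
  classical
  have hfin : Finite (Subgroup M) := inferInstance
  have hne : {N : Subgroup M | N.Normal ∧ N ≠ ⊤}.Nonempty := ⟨⊥, normal_bot, bot_ne_top⟩
  obtain ⟨N, hN⟩ := Set.Finite.exists_maximal (Set.toFinite _) hne
  obtain ⟨hNn, hNt⟩ := hN.prop
  refine ⟨N, hNn, ?_⟩
  have hnt : Nontrivial (M ⧸ N) := QuotientGroup.nontrivial_iff.2 hNt
  refine { eq_bot_or_eq_top_of_normal := fun K hK => ?_ }
  by_cases hKt : K = ⊤
  · exact Or.inr hKt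
  · left
    have h1 : (K.comap (QuotientGroup.mk' N)) ≠ ⊤ := by
      intro h
      apply hKt
      rw [eq_top_iff]
      intro x _
      obtain ⟨y, rfl⟩ := QuotientGroup.mk'_surjective N x
      have : y ∈ K.comap (QuotientGroup.mk' N) := by rw [h]; exact mem_top _
      exact this
    have h2 : N ≤ K.comap (QuotientGroup.mk' N) := by
      intro x hx
      rw [mem_comap, QuotientGroup.mk'_apply, (QuotientGroup.eq_one_iff x).2 hx]
      exact K.one_mem
    have h3 : K.comap (QuotientGroup.mk' N) ≤ N :=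
      hN.le_of_ge ⟨hK.comap _, h1⟩ h2
    rw [eq_bot_iff]
    intro x hx
    obtain ⟨y, rfl⟩ := QuotientGroup.mk'_surjective N x
    rw [mem_bot, QuotientGroup.mk'_apply, QuotientGroup.eq_one_iff]
    exact h3 hx

/-- `P` of order `p` a Sylow subgroup, `M` its normal closure: there is a subgroup `R ≤ M`, normal in `G`, of
order prime to `p`, with `M / R` simple and `p ∣ |M / R|`; it contains all the normal `p'`-subgroups of `M`. -/
theorem exists_section [Finite G] {p : ℕ} [hp : Fact p.Prime] (P : Sylow p G) (hP : Nat.card P = p) :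
    ∃ (R : Subgroup (normalClosure ((P : Subgroup G) : Set G))) (_ : R.Normal),
      (R.map (normalClosure ((P : Subgroup G) : Set G)).subtype).Normal ∧
      IsSimpleGroup (normalClosure ((P : Subgroup G) : Set G) ⧸ R) ∧ ¬ p ∣ Nat.card R ∧
      p ∣ Nat.card (normalClosure ((P : Subgroup G) : Set G) ⧸ R) ∧
      ∀ K : Subgroup (normalClosure ((P : Subgroup G) : Set G)), K.Normal → ¬ p ∣ Nat.card K → K ≤ R := by
  classical
  set M := normalClosure ((P : Subgroup G) : Set G) with hM
  have hMn : M.Normal := normalClosure_normal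
  have hPM : (P : Subgroup G) ≤ M := subset_normalClosure
  have hPnt : ∃ x ∈ (P : Subgroup G), x ≠ 1 := by
    have h1 : 1 < Nat.card (P : Subgroup G) := by
      have := hp.out.one_lt
      rw [hP] at *
      exact this
    have := Finite.one_lt_card_iff_nontrivial.1 h1
    obtain ⟨x, hx⟩ := exists_ne (1 : (P : Subgroup G))
    exact ⟨x, x.2, fun h => hx (Subtype.ext h)⟩
  obtain ⟨x0, hx0, hx01⟩ := hPnt
  have hMnt : Nontrivial M := ⟨⟨x0, hPM hx0⟩, 1, fun h => hx01 (congrArg Subtype.val h)⟩
  obtain ⟨R, hR, hsimple⟩ := exists_simple_quotient M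
  -- `p` divides `|M / R|`
  have hdvd : p ∣ Nat.card (M ⧸ R) := by
    by_contra hnd
    have hall : ∀ (x : G) (hx : x ∈ M), x ^ p = 1 → (⟨x, hx⟩ : M) ∈ R := by
      intro x hx hxp
      rw [← QuotientGroup.eq_one_iff]
      set y : M ⧸ R := QuotientGroup.mk ⟨x, hx⟩ with hy
      have hyp : y ^ p = 1 := by
        rw [hy, ← QuotientGroup.mk_pow]
        have : (⟨x, hx⟩ : M) ^ p = 1 := Subtype.ext hxp
        rw [this, QuotientGroup.mk_one]
      have h1 : orderOf y ∣ p := orderOf_dvd_of_pow_eq_one hyp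
      rcases (Nat.dvd_prime hp.out).1 h1 with h2 | h2
      · exact orderOf_eq_one_iff.1 h2
      · exact absurd (h2 ▸ orderOf_dvd_natCard y) hnd
    have hMR : M ≤ R.map M.subtype := by
      have hgen : Group.conjugatesOfSet ((P : Subgroup G) : Set G) ⊆ (R.map M.subtype : Subgroup G) := by
        intro y hy
        rw [Group.mem_conjugatesOfSet_iff] at hy
        obtain ⟨x, hx, hxy⟩ := hy
        have hyM : y ∈ M := conjugatesOfSet_subset_normalClosure (Group.mem_conjugatesOfSet_iff.2 ⟨x, hx, hxy⟩)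
        have hxp : x ^ p = 1 := by
          have h1 : orderOf (⟨x, hx⟩ : (P : Subgroup G)) ∣ p := by
            have := orderOf_dvd_natCard (⟨x, hx⟩ : (P : Subgroup G))
            rwa [hP] at this
          exact congrArg Subtype.val (orderOf_dvd_iff_pow_eq_one.1 h1)
        have hyp : y ^ p = 1 := by
          obtain ⟨c, hc⟩ := isConj_iff.1 hxy
          rw [← hc, conj_pow, hxp]
          simp
        exact ⟨⟨y, hyM⟩, hall y hyM hyp, rfl⟩
      exact (closure_le (K := R.map M.subtype)).2 hgen
    have htop : R = ⊤ := by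
      rw [eq_top_iff]
      intro x _
      obtain ⟨y, hy, hyx⟩ := hMR x.2
      have : y = x := Subtype.ext hyx
      rw [← this]; exact hy
    have := hsimple.toNontrivial
    rw [htop] at this
    exact (not_subsingleton_iff_nontrivial.2 this) (QuotientGroup.subsingleton_quotient_top)
  have hnd : ¬ p ∣ Nat.card R := by
    intro h
    obtain ⟨k, hk⟩ := h
    obtain ⟨l, hl⟩ := hdvd
    have h1 : Nat.card M = Nat.card (M ⧸ R) * Nat.card R := card_eq_card_quotient_mul_card_subgroup R
    have h2 : p * p ∣ Nat.card G := by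
      refine Dvd.dvd.trans ⟨l * k, ?_⟩ (card_subgroup_dvd_card M)
      rw [h1, hk, hl]; ring
    have h3 := P.card_eq_multiplicity
    rw [hP] at h3
    have h4 : 2 ≤ (Nat.card G).factorization p := by
      rw [← hp.out.pow_dvd_iff_le_factorization Nat.card_pos.ne', pow_two]
      exact h2
    have h5 : p ^ 2 ≤ p ^ (Nat.card G).factorization p := Nat.pow_le_pow_right hp.out.pos h4
    rw [← h3] at h5
    have := hp.out.two_le
    nlinarith
  have hmax : ∀ K : Subgroup M, K.Normal → ¬ p ∣ Nat.card K → K ≤ R := by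
    intro K hK hKp
    have h1 : (K.map (QuotientGroup.mk' R)).Normal := hK.map _ (QuotientGroup.mk'_surjective R)
    rcases hsimple.eq_bot_or_eq_top_of_normal _ h1 with h2 | h2
    · intro x hx
      rw [← QuotientGroup.eq_one_iff]
      have : QuotientGroup.mk' R x ∈ K.map (QuotientGroup.mk' R) := ⟨x, hx, rfl⟩
      rw [h2, mem_bot] at this
      exact this
    · exfalso
      apply hKp
      have h3 := Subgroup.card_map_dvd K (QuotientGroup.mk' R)
      rw [h2, Subgroup.card_top] at h3
      exact hdvd.trans h3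
  refine ⟨R, hR, ⟨?_⟩, hsimple, hnd, hdvd, hmax⟩
  -- `R` is normal in `G`
  intro x hx g
  obtain ⟨⟨x, hxM⟩, hxR, rfl⟩ := hx
  let c : M ≃* M := MulAut.conjNormal g
  have hcn : (R.map c.toMonoidHom).Normal := hR.map c.toMonoidHom c.surjective
  have hcc : Nat.card (R.map c.toMonoidHom) = Nat.card R :=
    (Nat.card_congr (R.equivMapOfInjective c.toMonoidHom c.injective).toEquiv).symm
  have h1 := hmax _ hcn (by rw [hcc]; exact hnd)
  have h2 : c ⟨x, hxM⟩ ∈ R := h1 ⟨_, hxR, rfl⟩
  exact ⟨c ⟨x, hxM⟩, h2, MulAut.conjNormal_apply g _⟩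

/-- If `G` is perfect then the simple group `M / R` is not commutative. -/
theorem not_comm [Finite G] (hperf : commutator G = ⊤) {p : ℕ} [hp : Fact p.Prime] (P : Sylow p G)
    (hP : Nat.card P = p) (M : Subgroup G) (hMn : M.Normal) (hPM : (P : Subgroup G) ≤ M)
    (R : Subgroup M) [hR : R.Normal] (hRG : (R.map M.subtype).Normal) (hnd : ¬ p ∣ Nat.card R) :
    ¬ IsCyclic (M ⧸ R) := by
  classical
  intro hcyc
  set N := R.map M.subtype with hN
  set φ := QuotientGroup.mk' N with hφ
  have hs : Function.Surjective φ := QuotientGroup.mk'_surjective N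
  have hperfQ : commutator (G ⧸ N) = ⊤ := by
    have h := Subgroup.map_commutator (⊤ : Subgroup G) ⊤ φ
    rw [Subgroup.map_top_of_surjective φ hs, ← commutator_def, ← commutator_def, hperf,
      Subgroup.map_top_of_surjective φ hs] at h
    exact h.symm
  -- the image of `M` is cyclic
  have hA : (M.map φ).Normal := hMn.map φ hs
  have hAc : IsCyclic (M.map φ) := by
    let f : M ⧸ R →* (M.map φ) := QuotientGroup.lift R
      ((φ.comp M.subtype).codRestrict (M.map φ) (fun x => ⟨x, x.2, rfl⟩)) (by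
        intro x hx
        apply Subtype.ext
        show φ x = 1
        rw [hφ, QuotientGroup.mk'_apply, QuotientGroup.eq_one_iff]
        exact ⟨x, hx, rfl⟩)
    refine isCyclic_of_surjective f ?_
    rintro ⟨_, ⟨x, hx, rfl⟩⟩
    exact ⟨QuotientGroup.mk ⟨x, hx⟩, rfl⟩
  have hAz := le_center_of_isCyclic hperfQ _ hA hAc
  -- `N(P) ≤ C(P)`
  have hNC : normalizer ((P : Subgroup G) : Set G) ≤ centralizer ((P : Subgroup G) : Set G) := by
    intro g hg
    rw [mem_centralizer_iff]
    intro x hx
    have h1 : g * x * g⁻¹ * x⁻¹ ∈ N := by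
      have h2 : φ x ∈ center (G ⧸ N) := hAz ⟨x, hPM hx, rfl⟩
      rw [mem_center_iff] at h2
      have h3 : φ (g * x * g⁻¹ * x⁻¹) = 1 := by
        rw [map_mul, map_mul, map_mul, h2 (φ g), map_inv, map_inv]
        group
      rwa [hφ, QuotientGroup.mk'_apply, QuotientGroup.eq_one_iff] at h3
    have h2 : g * x * g⁻¹ * x⁻¹ ∈ (P : Subgroup G) := by
      have h3 : g * x * g⁻¹ ∈ (P : Subgroup G) := (Subgroup.mem_normalizer_iff.1 hg x).1 hx
      exact mul_mem h3 (inv_mem hx)
    have h3 : g * x * g⁻¹ * x⁻¹ = 1 := by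
      have h4 : orderOf (g * x * g⁻¹ * x⁻¹) ∣ p := by
        have h5 : orderOf (⟨_, h2⟩ : (P : Subgroup G)) ∣ Nat.card (P : Subgroup G) := orderOf_dvd_natCard _
        rwa [hP, Subgroup.orderOf_mk] at h5
      rcases (Nat.dvd_prime hp.out).1 h4 with h5 | h5
      · exact orderOf_eq_one_iff.1 h5
      · exfalso
        apply hnd
        have h6 : orderOf (⟨_, h1⟩ : N) ∣ Nat.card N := orderOf_dvd_natCard _
        rw [Subgroup.orderOf_mk, h5] at h6
        rwa [hN, Nat.card_congr (R.equivMapOfInjective M.subtype M.subtype_injective).toEquiv.symm] at h6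
    have h4 : g * x * g⁻¹ = x := by
      rw [mul_inv_eq_one] at h3
      exact h3
    rw [mul_inv_eq_iff_eq_mul] at h4
    exact h4.symm
  -- transfer
  have hcompl := MonoidHom.ker_transferSylow_isComplement' P hNC
  have hcomm : ∀ a b : (P : Subgroup G), a * b = b * a := by
    have := isCyclic_of_prime_card hP
    exact (IsCyclic.isMulCommutative (α := (P : Subgroup G))).is_comm.comm
  have hker : (MonoidHom.transferSylow P hNC).ker = ⊤ := by
    rw [eq_top_iff, ← hperf, commutator_def, Subgroup.commutator_le]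
    intro a _ b _
    rw [MonoidHom.mem_ker, map_commutatorElement, commutatorElement_eq_one_iff_mul_comm]
    exact hcomm _ _
  rw [hker] at hcompl
  have h1 := hcompl.card_mul_card
  rw [Subgroup.card_top] at h1
  have h2 : 0 < Nat.card G := Nat.card_pos
  have h3 : Nat.card (P : Subgroup G) = 1 := by
    apply Nat.eq_of_mul_eq_mul_left h2
    rw [h1, mul_one]
  rw [hP] at h3
  exact hp.out.one_lt.ne' h3

end Cfsg.Agent.H655.PrimeNormal
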