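import Cfsg.Prelude.Def_Characters
import Cfsg.Agent.Characters.Core
import Cfsg.Agent.Characters.Values
import Cfsg.Agent.Characters.DegreeBounds
import Cfsg.Agent.Characters.CentralCharacter
import Cfsg.Agent.H599.Ito
import Cfsg.Agent.H655.PrimeNormal
import Cfsg.Agent.FastGrp
import Cfsg.Agent.Prune
set_option linter.all false
prune_inst 0x7f00000000000000000000000000000000000000000000000000000000000000000000000000000000000000000000000000000000000000000000000000000000000000000000000000000000000000003ffffffffffffffffffff7ffffffbeffbdf7ffffff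
open scoped Cfsg.Agent.FastGrp

/-!
# Linear groups of degree less than `p - 1` with a Sylow `p`-subgroup of order `p`: reduction (helper655)
-/

set_option autoImplicit false
set_option linter.unusedSectionVars false
open Cfsg
open scoped ComplexConjugate commutatorElement

namespace Cfsg.Agent.H655.Basic

open Subgroup
open Cfsg.Agent.Characters.Core

universe u

variable {G : Type u} [Group G] [Finite G] {p : ℕ} [Fact p.Prime]

theorem exists_rep {ζ : G → ℂ} (hζ : IsIrrCharacter G ζ) (hf : ∀ g : G, ζ g = ζ 1 → g = 1) :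
    ∃ (n : ℕ) (ρ : Representation ℂ G (Fin n → ℂ)), ρ.IsIrreducible ∧ Function.Injective ρ ∧
      ρ.character = ζ ∧ ζ 1 = n := by
  obtain ⟨n, ρ, hρ, rfl⟩ := hζ
  refine ⟨n, ρ, hρ, ?_, rfl, ?_⟩
  · rw [injective_iff_map_eq_one]
    intro g hg
    apply hf
    rw [Representation.character, Representation.character, hg, map_one ρ]
  · rw [Representation.char_one, Module.finrank_fin_fun]

/-- If `|χ(x)| = χ(1)` then commutators with `x` are in the kernel. -/
theorem apply_commutator_of_norm {χ : G → ℂ} (hχ : IsCharacter G χ) {x : G} (h : ‖χ x‖ = ‖χ 1‖) (y : G) :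
    χ ⁅x, y⁆ = χ 1 := by
  obtain ⟨n, ρ, rfl⟩ := hχ
  rw [Representation.char_one] at h ⊢
  have h1 : ‖ρ.character x‖ = (Module.finrank ℂ (Fin n → ℂ) : ℝ) := by
    rw [h]; simp
  obtain ⟨w, hw⟩ := (Characters.Values.norm_character_eq_iff ρ x).1 h1
  rw [Characters.Values.character_eq_finrank_iff]
  have h2 : ρ x * ρ y = ρ y * ρ x := by
    rw [hw]
    ext v
    simp [Module.End.mul_apply]
  rw [commutatorElement_def, map_mul, map_mul, map_mul, h2]
  have h3 : ρ x * ρ x⁻¹ = 1 := by rw [← map_mul, mul_inv_cancel, map_one]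
  have h4 : ρ y * ρ y⁻¹ = 1 := by rw [← map_mul, mul_inv_cancel, map_one]
  rw [mul_assoc (ρ y), h3, mul_one, h4]
  rfl

theorem mem_center_of_norm {χ : G → ℂ} (hχ : IsCharacter G χ) (hf : ∀ g : G, χ g = χ 1 → g = 1) {x : G}
    (h : ‖χ x‖ = ‖χ 1‖) : x ∈ center G := by
  rw [mem_center_iff]
  intro y
  have h1 := hf _ (apply_commutator_of_norm hχ h y)
  rw [commutatorElement_eq_one_iff_mul_comm] at h1
  exact h1.symm

/-- A central element acts as a scalar. -/
theorem norm_of_mem_center {χ : G → ℂ} (hχ : IsIrrCharacter G χ) {x : G} (h : x ∈ center G) : ‖χ x‖ = ‖χ 1‖ := by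
  obtain ⟨n, ρ, hρ, rfl⟩ := hχ
  rw [Representation.char_one]
  have h1 : ‖ρ.character x‖ = (Module.finrank ℂ (Fin n → ℂ) : ℝ) := by
    rw [Characters.Values.norm_character_eq_iff]
    have := hρ
    obtain ⟨c, hc⟩ := Cfsg.Agent.Characters.CentralCharacter.exists_scalar_of_commute ρ (ρ x) (fun g v => by
      have h2 := mem_center_iff.1 h g
      rw [← Module.End.mul_apply, ← Module.End.mul_apply, ← map_mul, ← map_mul, h2])
    exact ⟨c, hc⟩
  rw [h1]
  simp

/-- A normal subgroup of a normal subgroup containing its Sylow subgroup. -/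
theorem normal_of_le_normalizer {P : Sylow p G} {H : Subgroup G} (hH : H.Normal) (hPH : (P : Subgroup G) ≤ H)
    (hHN : H ≤ normalizer ((P : Subgroup G) : Set G)) : (P : Subgroup G).Normal := by
  have h0 : ((P.subtype hPH : Sylow p H) : Subgroup H).Normal := by
    have h3 : ((P.subtype hPH : Sylow p H) : Subgroup H) = (P : Subgroup G).subgroupOf H := rfl
    rw [h3]
    exact Subgroup.normal_subgroupOf_of_le_normalizer hHN
  have huniq : ∀ Q : Sylow p H, Q = P.subtype hPH := by
    intro Q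
    have h1 := Sylow.unique_of_normal (P.subtype hPH) h0
    exact Subsingleton.elim _ _
  refine ⟨fun x hx g => ?_⟩
  -- `g P g⁻¹ ≤ H` is a Sylow subgroup of `H`
  have h1 : ((g • P : Sylow p G) : Subgroup G) ≤ H := by
    intro y hy
    rw [Sylow.coe_subgroup_smul] at hy
    obtain ⟨z, hz, rfl⟩ := hy
    exact hH.conj_mem z (hPH hz) g
  have h2 := huniq ((g • P).subtype h1)
  have h3 : g * x * g⁻¹ ∈ (g • P : Sylow p G) := by
    show g * x * g⁻¹ ∈ ((g • P : Sylow p G) : Subgroup G)
    rw [Sylow.coe_subgroup_smul]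
    exact ⟨x, hx, rfl⟩
  have h4 : (⟨g * x * g⁻¹, h1 h3⟩ : H) ∈ ((g • P).subtype h1 : Sylow p H) := h3
  rw [h2] at h4
  exact h4

/-- A normal subgroup whose order is divisible by `p` contains `P`. -/
theorem le_of_dvd {P : Sylow p G} (hP : Nat.card P = p) {H : Subgroup G} (hH : H.Normal) (h : p ∣ Nat.card H) :
    (P : Subgroup G) ≤ H := by
  obtain ⟨y, hy⟩ := exists_prime_orderOf_dvd_card' p h
  have h1 : IsPGroup p (zpowers (y : G)) := by
    rw [IsPGroup.iff_card]
    exact ⟨1, by rw [Nat.card_zpowers, Subgroup.orderOf_coe, hy, pow_one]⟩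
  obtain ⟨Q, hQ⟩ := h1.exists_le_sylow
  obtain ⟨g, rfl⟩ := MulAction.exists_smul_eq G P Q
  have hQc : Nat.card (g • P : Sylow p G) = p := by
    rw [Sylow.card_eq_multiplicity, ← P.card_eq_multiplicity]
    exact hP
  have h2 : zpowers (y : G) = ((g • P : Sylow p G) : Subgroup G) := by
    apply Subgroup.eq_of_le_of_card_ge hQ
    rw [Nat.card_zpowers, Subgroup.orderOf_coe, hy]
    exact hQc.le
  intro x hx
  have h3 : g * x * g⁻¹ ∈ ((g • P : Sylow p G) : Subgroup G) := by
    rw [Sylow.coe_subgroup_smul]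
    exact ⟨x, hx, rfl⟩
  rw [← h2] at h3
  have h4 : g * x * g⁻¹ ∈ H := (zpowers_le.2 y.2) h3
  have h5 := hH.conj_mem _ h4 g⁻¹
  have h6 : g⁻¹ * (g * x * g⁻¹) * g⁻¹⁻¹ = x := by group
  rwa [h6] at h5

/-- **Itô**: `P` centralizes the normal subgroups of order prime to `p` of a linear group of degree less
than `p - 1`. -/
theorem comm_of_pprime {n : ℕ} (ρ : Representation ℂ G (Fin n → ℂ)) (hρ : Function.Injective ρ) (P : Sylow p G)
    (hP : Nat.card P = p) (hn : n + 1 < p) {X : Subgroup G} (hXn : X.Normal) (hX : ¬ p ∣ Nat.card X) :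
    ∀ u ∈ X, ∀ x ∈ P, u * x = x * u := by
  have hp : p.Prime := Fact.out
  set Y : Subgroup G := X ⊔ (P : Subgroup G) with hY
  have hXY : X ≤ Y := le_sup_left
  have hPY : (P : Subgroup G) ≤ Y := le_sup_right
  let σ : Representation ℂ Y (Fin n → ℂ) := ρ.comp Y.subtype
  have hσ : Function.Injective σ := hρ.comp Y.subtype_injective
  have hN : (X.subgroupOf Y).Normal := hXn.subgroupOf Y
  have hcop : (Nat.card (X.subgroupOf Y)).Coprime p := by
    rw [Nat.card_congr (Subgroup.subgroupOfEquivOfLe hXY).toEquiv]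
    exact ((hp.coprime_iff_not_dvd).2 hX).symm
  have hsolv : IsPSolvable p Y := by
    apply Lib.PSolvable.IsPSolvable_of_quotient p (X.subgroupOf Y) (Or.inr hcop)
    apply PLocal.PSolvable.isPSolvable_of_isPGroup
    intro y
    obtain ⟨y, rfl⟩ := QuotientGroup.mk_surjective y
    have hy : (y : G) ∈ ((X ⊔ (P : Subgroup G) : Subgroup G) : Set G) := y.2
    rw [Subgroup.normal_mul] at hy
    obtain ⟨u, hu, x, hx, hux⟩ := hy
    have hxp : x ^ p = 1 := by
      have h1 : (⟨x, hx⟩ : (P : Subgroup G)) ^ Nat.card (P : Subgroup G) = 1 := pow_card_eq_one'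
      have h2 : Nat.card (P : Subgroup G) = p := hP
      rw [h2] at h1
      exact congrArg Subtype.val h1
    refine ⟨1, ?_⟩
    have h1 : (QuotientGroup.mk y : Y ⧸ X.subgroupOf Y) = QuotientGroup.mk (⟨x, hPY hx⟩ : Y) := by
      rw [QuotientGroup.eq_iff_div_mem, mem_subgroupOf]
      show (y : G) / x ∈ X
      rw [← hux, mul_div_cancel_right]
      exact hu
    rw [h1, pow_one, ← QuotientGroup.mk_pow]
    have h2 : (⟨x, hPY hx⟩ : Y) ^ p = 1 := Subtype.ext hxp
    rw [h2, QuotientGroup.mk_one]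
  have hnorm : ((P.subtype hPY : Sylow p Y) : Subgroup Y).Normal := by
    by_contra hnn
    have := (H599.Ito.main σ hσ hsolv hn.le (P.subtype hPY) hnn).1
    omega
  intro u hu x hx
  have h1 : (⟨x, hPY hx⟩ : Y) ∈ ((P.subtype hPY : Sylow p Y) : Subgroup Y) := hx
  have h2 := hnorm.conj_mem _ h1 ⟨u, hXY hu⟩
  have h3 : u * x * u⁻¹ ∈ (P : Subgroup G) := h2
  have h4 : u * x * u⁻¹ * x⁻¹ ∈ (P : Subgroup G) := mul_mem h3 (inv_mem hx)
  have h5 : u * x * u⁻¹ * x⁻¹ ∈ X := by
    have h6 := hXn.conj_mem _ (inv_mem hu) x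
    have h7 : u * x * u⁻¹ * x⁻¹ = u * (x * u⁻¹ * x⁻¹) := by group
    rw [h7]
    exact mul_mem hu h6
  have h8 : u * x * u⁻¹ * x⁻¹ = 1 := by
    by_contra hne
    apply hX
    have h9 : orderOf (u * x * u⁻¹ * x⁻¹) ∣ p := by
      have h10 := Subgroup.orderOf_dvd_natCard (P : Subgroup G) h4
      have h11 : Nat.card (P : Subgroup G) = p := hP
      rwa [h11] at h10
    have h12 : orderOf (u * x * u⁻¹ * x⁻¹) = p := by
      rcases (Nat.dvd_prime hp).1 h9 with h13 | h13
      · exact absurd (orderOf_eq_one_iff.1 h13) hne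
      · exact h13
    rw [← h12]
    exact Subgroup.orderOf_dvd_natCard X h5
  rw [mul_inv_eq_one, mul_inv_eq_iff_eq_mul] at h8
  exact h8

end Cfsg.Agent.H655.Basic
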