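import Cfsg.Agent.SmallSimple.TheoremCCor
import Cfsg.Agent.H655.Basic
import Cfsg.Agent.H167.HasSt
import Cfsg.Agent.FastGrp
import Cfsg.Agent.Prune
set_option linter.all false
prune_inst 0x7f00000000000000000000000000000000000000000000000000000000000000000000000000000000000000000000000000000000000000000000000000000000000000000000000000000000000000003ffffffffffffffffffff7ffffffbeffbdf7ffffff
open scoped Cfsg.Agent.FastGrp

-- part: H655/Dichotomy
section
/-!
# Irreducible characters of degree less than `p - 1` (helper655)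

`P` a Sylow `p`-subgroup of order `p`, `K` the `p`-regular part of its centralizer, `E = |N(P) : C(P)|`, `ζ` an
irreducible character of degree `d < p - 1`. Theorem `dichotomy`: one of

* `P` is in the kernel of `ζ`;
* (minus) `ζ` is an exceptional character over a linear stable character `θ` of `K` and `d = p - E`;
* (plus) `ζ` is an exceptional character over an irreducible character `θ` of `K` and `d = E θ(1)`.
-/

set_option autoImplicit false
set_option linter.unusedSectionVars false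
open Cfsg
open scoped ComplexConjugate

namespace Cfsg.Agent.H655.Dichotomy

open Subgroup
open Cfsg.Agent.Characters.Core Cfsg.Agent.Characters.Linear
open Cfsg.Agent.SmallSimple.PrimeDual Cfsg.Agent.SmallSimple.ThetaSetup
open Cfsg.Agent.SmallSimple.ThetaOrtho Cfsg.Agent.SmallSimple.ThetaGroup
open Cfsg.Agent.SmallSimple.ThetaCount Cfsg.Agent.SmallSimple.TheoremC
open Cfsg.Agent.SmallSimple.TheoremCCor

universe u

variable {G : Type u} [Group G] [Finite G] {p : ℕ} [Fact p.Prime] {P : Sylow p G}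
  {K : Subgroup G}

/-- A character of degree prime to `p` does not vanish on `P \ 1`. -/
theorem exists_apply_ne_zero (hP : Nat.card P = p) {ζ : G → ℂ} (hζ : IsCharacter G ζ) {n : ℕ}
    (hn : ζ 1 = n) (hpn : ¬ p ∣ n) : ∃ x ∈ P, x ≠ 1 ∧ ζ x ≠ 0 := by
  classical
  by_contra hcon
  push Not at hcon
  apply hpn
  have := Fintype.ofFinite P
  have h1 : IsCharacter P (fun x : P => ζ x) := isCharacter_comp (P : Subgroup G).subtype hζ
  obtain ⟨m, hm⟩ := classInner_isNat h1 (isCharacter_one (G := P))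
  rw [classInner_def] at hm
  have hc0 : (Nat.card P : ℂ) ≠ 0 := card_ne_zero_complex
  rw [inv_mul_eq_iff_eq_mul₀ hc0] at hm
  have h2 : ∑ x : ↥(P : Subgroup G), ζ x * conj ((1 : ↥(P : Subgroup G) → ℂ) x) = ζ 1 := by
    rw [Finset.sum_eq_single (1 : ↥(P : Subgroup G))]
    · simp only [_root_.OneMemClass.coe_one, _root_.Pi.one_apply, _root_.map_one, _root_.mul_one]
    · intro x _ hx
      rw [hcon x x.2 (fun h => hx (Subtype.ext h)), zero_mul]
    · intro h
      exact absurd (Finset.mem_univ _) h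
  rw [h2, hn] at hm
  have h3 : n = Nat.card P * m := by exact_mod_cast hm
  rw [hP] at h3
  exact ⟨m, h3⟩

theorem exists_over (hK : IsComp p (P : Subgroup G) K) (hP : Nat.card P = p) {ζ : IrrCharacter G}
    {n : ℕ} (hn : (ζ : G → ℂ) 1 = n) (hpn : ¬ p ∣ n) : ∃ θ : IrrCharacter K, ζ ∈ Over P (θ : K → ℂ) := by
  obtain ⟨x, hx, hx1, h⟩ := exists_apply_ne_zero hP (isIrr_isCharacter ζ.2) hn hpn
  exact exists_mem_Over hK hP ⟨x, by rw [Blocks.CyclicOrtho.orderOf_eq P hP hx hx1], h⟩

/-- the multiplicities -/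
theorem exists_mult (hK : IsComp p (P : Subgroup G) K) {ζ : IrrCharacter G} {n : ℕ}
    (hn : (ζ : G → ℂ) 1 = n) [Fintype (IrrCharacter K)] : ∃ m f : IrrCharacter K → ℕ,
      (∀ θ : IrrCharacter K, part (θ : K → ℂ) (ζ : G → ℂ) 1 = m θ) ∧
      (∀ θ : IrrCharacter K, (θ : K → ℂ) 1 = f θ) ∧ (∀ θ, 0 < f θ) ∧ n = ∑ θ, m θ * f θ := by
  choose m hm using fun θ : IrrCharacter K => exists_part_one hK (isIrr_isCharacter ζ.2) θ.2
  choose f hf0 hf using fun θ : IrrCharacter K => isIrr_apply_one θ.2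
  refine ⟨m, f, hm, hf, hf0, ?_⟩
  have h1 := degree_eq_sum (K := K) (isIrr_isClassFunction ζ.2)
  rw [hn] at h1
  have h2 : (n : ℂ) = ((∑ θ, m θ * f θ : ℕ) : ℂ) := by
    rw [h1]
    push_cast
    exact Finset.sum_congr rfl fun θ _ => by rw [hm, hf]
  exact_mod_cast h2

/-- `part` at one is constant on the orbit. -/
theorem part_one_orb (hK : IsComp p (P : Subgroup G) K) {θ : K → ℂ} {χ : G → ℂ} (hχ : IsClassFunction G χ)
    {θ' : IrrCharacter K} (hθ' : θ' ∈ orb P K θ) : part (θ' : K → ℂ) χ 1 = part θ χ 1 := by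
  obtain ⟨n, hn, h⟩ := mem_orb.1 hθ'
  rw [← h, ← part_conj hK θ hχ hn]
  simp

theorem orb_apply_one (hK : IsComp p (P : Subgroup G) K) {θ : K → ℂ} {θ' : IrrCharacter K}
    (h : θ' ∈ orb P K θ) : (θ' : K → ℂ) 1 = θ 1 := by
  obtain ⟨n, hn, h1⟩ := mem_orb.1 h
  rw [← h1, tw_apply hK _ hn]
  congr 1
  apply Subtype.ext
  simp

/-- The multiplicities outside the orbit. -/
theorem part_one_of_not_mem_orb (hK : IsComp p (P : Subgroup G) K) (hP : Nat.card P = p)
    {θ : IrrCharacter K} {ζ : IrrCharacter G} {n : ℕ} (hn : (ζ : G → ℂ) 1 = n) (hlt : n < p)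
    (hζ : ζ ∈ Over P (θ : K → ℂ)) {θ' : IrrCharacter K} (hθ' : θ' ∉ orb P K (θ : K → ℂ)) :
    part (θ' : K → ℂ) (ζ : G → ℂ) 1 = 0 := by
  classical
  have : Finite (IrrCharacter K) := finite_irr
  have := Fintype.ofFinite (IrrCharacter K)
  obtain ⟨m, f, hm, hf, hf0, hsum⟩ := exists_mult hK (ζ := ζ) hn
  obtain ⟨k, hk⟩ := part_one_of_const hK hP (isIrr_isCharacter ζ.2) θ'.2 (c := 0)
    (fun x hx => by rw [part_eq_zero_of_not_mem_orb hK hP θ.2 hζ hθ' hx]; simp)
  rw [hm] at hk
  have h1 : (m θ' : ℤ) = 0 + p * k := by exact_mod_cast hk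
  have h2 : m θ' * f θ' ≤ n := by
    rw [hsum]
    exact Finset.single_le_sum (f := fun θ => m θ * f θ) (fun _ _ => Nat.zero_le _) (Finset.mem_univ θ')
  have h3 : m θ' ≤ m θ' * f θ' := Nat.le_mul_of_pos_right _ (hf0 θ')
  have h4 : m θ' = 0 := by
    have hp0 : (0 : ℤ) < p := by exact_mod_cast (Fact.out : p.Prime).pos
    by_contra hne
    have h5 : 0 < k := by
      by_contra hk0
      push Not at hk0
      have : (p : ℤ) * k ≤ 0 := mul_nonpos_of_nonneg_of_nonpos hp0.le hk0
      omega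
    have h6 : (p : ℤ) * 1 ≤ p * k := mul_le_mul_of_nonneg_left (by omega) hp0.le
    omega
  rw [hm, h4, Nat.cast_zero]

/-- degree is a sum over the orbit -/
theorem degree_orb (hK : IsComp p (P : Subgroup G) K) (hP : Nat.card P = p)
    {θ : IrrCharacter K} {ζ : IrrCharacter G} {n : ℕ} (hn : (ζ : G → ℂ) 1 = n) (hlt : n < p)
    (hζ : ζ ∈ Over P (θ : K → ℂ)) :
    (ζ : G → ℂ) 1 = (orb P K (θ : K → ℂ)).card * (part (θ : K → ℂ) (ζ : G → ℂ) 1 * (θ : K → ℂ) 1) := by
  classical
  have : Finite (IrrCharacter K) := finite_irr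
  have := Fintype.ofFinite (IrrCharacter K)
  rw [degree_eq_sum (K := K) (isIrr_isClassFunction ζ.2),
    ← Finset.sum_subset (Finset.subset_univ (orb P K (θ : K → ℂ)))]
  · rw [Finset.sum_congr rfl (g := fun _ => part (θ : K → ℂ) (ζ : G → ℂ) 1 * (θ : K → ℂ) 1),
      Finset.sum_const, nsmul_eq_mul]
    intro θ' h
    rw [part_one_orb hK (isIrr_isClassFunction ζ.2) h, orb_apply_one hK h]
  · intro θ' _ h
    rw [part_one_of_not_mem_orb hK hP hn hlt hζ h, zero_mul]

theorem self_mem_orb (θ : IrrCharacter K) : θ ∈ orb P K (θ : K → ℂ) := mem_orb.2 ⟨1, one_mem _, tw_one _⟩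

/-- The constant case. -/
theorem of_const (hK : IsComp p (P : Subgroup G) K) (hP : Nat.card P = p)
    {θ : IrrCharacter K} {ζ : IrrCharacter G} {n : ℕ} (hn : (ζ : G → ℂ) 1 = n) (hlt : n < p - 1)
    (hζ : ζ ∈ Over P (θ : K → ℂ)) {c : ℤ} (hc : c = 1 ∨ c = -1)
    (h : ∀ x : P, x ≠ 1 → part (θ : K → ℂ) (ζ : G → ℂ) x = c) : ∀ x ∈ P, (ζ : G → ℂ) x = (ζ : G → ℂ) 1 := by
  classical
  have hp2 := (Fact.out : p.Prime).two_le
  obtain ⟨m, hm⟩ := exists_part_one hK (isIrr_isCharacter ζ.2) θ.2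
  obtain ⟨f, hf0, hf⟩ := isIrr_apply_one θ.2
  have h1 := degree_orb hK hP hn (by omega) hζ
  set o := (orb P K (θ : K → ℂ)).card with ho
  have ho0 : 0 < o := Finset.card_pos.2 ⟨θ, self_mem_orb θ⟩
  rw [hn, hm, hf] at h1
  have h2 : n = o * (m * f) := by exact_mod_cast h1
  have h3 : m ≤ n := by
    rw [h2]
    calc m ≤ m * f := Nat.le_mul_of_pos_right _ hf0
      _ ≤ o * (m * f) := Nat.le_mul_of_pos_left _ ho0
  obtain ⟨k, hk⟩ := part_one_of_const hK hP (isIrr_isCharacter ζ.2) θ.2 h
  rw [hm] at hk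
  have h4 : (m : ℤ) = c + p * k := by exact_mod_cast hk
  have hk0 : k = 0 := by
    have hp0 : (0 : ℤ) < p := by exact_mod_cast (Fact.out : p.Prime).pos
    rcases lt_trichotomy k 0 with hk | hk | hk
    · exfalso
      have : (p : ℤ) * k ≤ p * (-1) := mul_le_mul_of_nonneg_left (by omega) hp0.le
      omega
    · exact hk
    · exfalso
      have : (p : ℤ) * 1 ≤ p * k := mul_le_mul_of_nonneg_left (by omega) hp0.le
      omega
  have hc1 : c = 1 := by
    rcases hc with h | h
    · exact h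
    · rw [hk0, mul_zero, h] at h4
      omega
  have hm1 : m = 1 := by
    rw [hk0, mul_zero, hc1] at h4
    omega
  intro x hx
  by_cases hx1 : x = 1
  · rw [hx1]
  · have h5 := apply_of_const hK hP θ.2 hζ (c := c) h (x := ⟨x, hx⟩) (fun h => hx1 (congrArg Subtype.val h)) 1
    have h6 : ((⟨x, hx⟩ : P) : G) * ((1 : K) : G) = x := by simp
    rw [h6, hc1, Finset.sum_congr rfl (fun θ' h => orb_apply_one hK h), Finset.sum_const, ← ho, hf,
      nsmul_eq_mul, Int.cast_one, one_mul] at h5
    rw [h5, hn, h2, hm1, one_mul, Nat.cast_mul]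

/-- Data of the case `d = p - E`. -/
structure Minus (P : Sylow p G) (K : Subgroup G) (ζ : IrrCharacter G) (E t : ℕ) : Prop where
  het : E * t = p - 1
  two_le : 2 ≤ t
  two_le_E : 2 ≤ E
  relIndex : (centralizer ((P : Subgroup G) : Set G)).relIndex (normalizer ((P : Subgroup G) : Set G)) = E
  deg : (ζ : G → ℂ) 1 = ((p - E : ℕ) : ℂ)
  theta : ∃ θ : IrrCharacter K, (θ : K → ℂ) 1 = 1 ∧ ∀ x ∈ P, ∀ y : K, (ζ : G → ℂ) (x * y) = (ζ : G → ℂ) x * (θ : K → ℂ) y
  vals : ∃ S : Finset (P →* ℂˣ), S.card = E ∧ 1 ∉ S ∧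
    ∀ x : ↥(P : Subgroup G), x ≠ 1 → (ζ : G → ℂ) x = - ∑ l ∈ S, ((l x : ℂˣ) : ℂ)
  other : ∃ ζ' : IrrCharacter G, ζ' ≠ ζ ∧ ∀ g : G, ¬ p ∣ orderOf g → (ζ' : G → ℂ) g = (ζ : G → ℂ) g

/-- Data of the case `d = E θ(1)`. -/
structure Plus (P : Sylow p G) (K : Subgroup G) (ζ : IrrCharacter G) (E t : ℕ) : Prop where
  het : E * t = p - 1
  two_le : 2 ≤ t
  relIndex : (centralizer ((P : Subgroup G) : Set G)).relIndex (normalizer ((P : Subgroup G) : Set G)) = E
  theta : ∃ θ : IrrCharacter K, (ζ : G → ℂ) 1 = E * (θ : K → ℂ) 1 ∧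
    ∃ S : IrrCharacter K → Finset (P →* ℂˣ), (∀ θ', (S θ').card * (orb P K (θ : K → ℂ)).card = E ∧ 1 ∉ S θ') ∧
      ∀ x : ↥(P : Subgroup G), (ζ : G → ℂ) x =
        (θ : K → ℂ) 1 * ∑ θ' ∈ orb P K (θ : K → ℂ), ∑ l ∈ S θ', ((l x : ℂˣ) : ℂ)

/-- A conjugate of an exceptional value. -/
theorem part_orb_of_exc (hK : IsComp p (P : Subgroup G) K) {θ : K → ℂ} {χ : IrrCharacter G} {d : ℂ}
    {S : Finset (P →* ℂˣ)} (hS : 1 ∉ S)
    (hc : ∀ x : P, x ≠ 1 → part θ (χ : G → ℂ) x = d * ∑ l ∈ S, ((l x : ℂˣ) : ℂ)) {θ' : IrrCharacter K}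
    (hθ' : θ' ∈ orb P K θ) : ∃ S' : Finset (P →* ℂˣ), S'.card = S.card ∧ 1 ∉ S' ∧
      ∀ x : P, x ≠ 1 → part (θ' : K → ℂ) (χ : G → ℂ) x = d * ∑ l ∈ S', ((l x : ℂˣ) : ℂ) := by
  classical
  obtain ⟨n, hn, h⟩ := mem_orb.1 hθ'
  let f : (P →* ℂˣ) → (P →* ℂˣ) := fun l => l.comp (cP hn).toMonoidHom
  have hf : Function.Injective f := by
    intro a b hab
    ext x
    have h1 := congrArg (fun l : P →* ℂˣ => l ((cP hn).symm x)) hab
    have h2 : (cP hn) ((cP hn).symm x) = x := (cP hn).apply_symm_apply x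
    have h3 : a ((cP hn) ((cP hn).symm x)) = b ((cP hn) ((cP hn).symm x)) := h1
    rw [h2] at h3
    rw [h3]
  refine ⟨S.image f, Finset.card_image_of_injective _ hf, ?_, ?_⟩
  · intro h1
    obtain ⟨l, hl, hl1⟩ := Finset.mem_image.1 h1
    apply hS
    have h2 : f 1 = 1 := by
      ext x
      rfl
    rw [← h2] at hl1
    rwa [← hf hl1]
  · intro x hx
    rw [← h, ← part_conj hK θ (isIrr_isClassFunction χ.2) hn, ← coe_cP hn,
      hc _ fun h1 => hx ((MulEquiv.map_eq_one_iff (cP hn)).1 h1), Finset.sum_image (fun a _ b _ hab => hf hab)]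
    rfl

theorem sum_one {S : Finset (P →* ℂˣ)} : ∑ l ∈ S, ((l 1 : ℂˣ) : ℂ) = S.card := by
  simp

/-- **The dichotomy.** -/
theorem dichotomy (hK : IsComp p (P : Subgroup G) K) (hP : Nat.card P = p) {ζ : IrrCharacter G} {n : ℕ}
    (hn : (ζ : G → ℂ) 1 = n) (hlt : n < p - 1) :
    (∀ x ∈ P, (ζ : G → ℂ) x = (ζ : G → ℂ) 1) ∨ ∃ E t : ℕ, Minus P K ζ E t ∨ Plus P K ζ E t := by
  classical
  have hp : p.Prime := Fact.out
  have hp2 := hp.two_le
  have : Finite (IrrCharacter K) := finite_irr
  have := Fintype.ofFinite (IrrCharacter K)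
  obtain ⟨n', hn0, hn'⟩ := isIrr_apply_one ζ.2
  have hnn : n' = n := by
    have h1 : (n' : ℂ) = n := by rw [← hn', hn]
    exact_mod_cast h1
  rw [hnn] at hn0
  obtain ⟨θ, hθ⟩ := exists_over hK hP hn (fun h => by
    have := Nat.le_of_dvd hn0 h
    omega)
  have hE := card_stabAct_mul_card_orb hK hP θ.2
  set o := (orb P K (θ : K → ℂ)).card with ho
  have ho0 : 0 < o := Finset.card_pos.2 ⟨θ, self_mem_orb θ⟩
  set e := Nat.card (stabAct hK (θ : K → ℂ)) with he
  set E := (centralizer ((P : Subgroup G) : Set G)).relIndex (normalizer ((P : Subgroup G) : Set G)) with hEdef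
  -- `E ∣ p - 1`
  have hEdvd : E ∣ p - 1 := by
    have hst : ∀ n ∈ normalizer ((P : Subgroup G) : Set G), tw (1 : K → ℂ) n = 1 :=
      fun n hn => tw_one_char hK hn
    have h1 := card_stabAct_of_stable hK hP (isIrr_one (G := K)) hst
    obtain ⟨s, hs, -, -⟩ := exists_orbit_reps hp hP (stabAct hK (1 : K → ℂ))
    rw [hEdef, ← h1]
    exact ⟨_, hs.symm⟩
  obtain ⟨T, hT⟩ := hEdvd
  have het : e * (o * T) = p - 1 := by rw [← mul_assoc, hE, hT]
  obtain ⟨NE, X, ε, d, S, g1, g2, g3, g4, g5, g6, g7, g8, g9, g10, g11⟩ := theoremC hK hP θ.2 he.symm het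
  have he0 : 0 < e := Nat.card_pos
  obtain ⟨m, f, hm, hf, hf0, hsum⟩ := exists_mult hK (ζ := ζ) hn
  have hdeg := degree_orb hK hP hn (by omega) hθ
  rw [hn, hm, hf, ← ho] at hdeg
  have hdeg' : n = o * (m θ * f θ) := by exact_mod_cast hdeg
  have hmn : m θ ≤ n := by
    rw [hdeg']
    calc m θ ≤ m θ * f θ := Nat.le_mul_of_pos_right _ (hf0 θ)
      _ ≤ o * (m θ * f θ) := Nat.le_mul_of_pos_left _ ho0
  rcases (g1 ζ).1 hθ with hNE | hX
  · left
    exact of_const hK hP hn hlt hθ (g5 ζ hNE) (g7 ζ hNE)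
  obtain ⟨hSc, hS1, hSst, hSv⟩ := g8 ζ hX
  have hT0 : 0 < T := by
    rcases Nat.eq_zero_or_pos T with h | h
    · rw [h, mul_zero] at hT; omega
    · exact h
  have hoT : 0 < o * T := Nat.mul_pos ho0 hT0
  by_cases hT1 : o * T = 1
  · -- only one exceptional character
    left
    have := finite_dual hp hP
    have := Fintype.ofFinite (P →* ℂˣ)
    have hXs : X = {ζ} := by
      rw [hT1] at g4
      obtain ⟨Θ, hΘ⟩ := Finset.card_eq_one.1 g4
      rw [hΘ] at hX ⊢
      rw [Finset.mem_singleton.1 hX]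
    have hSe : S ζ = Finset.univ.erase 1 := by
      ext l
      rw [Finset.mem_erase]
      constructor
      · intro hl
        exact ⟨fun h => hS1 (h ▸ hl), Finset.mem_univ _⟩
      · rintro ⟨hl, -⟩
        obtain ⟨Θ', hΘ', h⟩ := g10 l hl
        rw [hXs, Finset.mem_singleton] at hΘ'
        rwa [hΘ'] at h
    refine of_const hK hP hn hlt hθ (c := -d) (by rcases g6 with h | h <;> omega) ?_
    intro x hx
    rw [hSv x hx, hSe]
    have h12 := sum_dual_eq_zero hp hP hx
    rw [← Finset.add_sum_erase _ _ (Finset.mem_univ (1 : P →* ℂˣ))] at h12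
    have h13 : ∑ l ∈ Finset.univ.erase (1 : P →* ℂˣ), ((l x : ℂˣ) : ℂ) = -1 := by
      have : (((1 : P →* ℂˣ) x : ℂˣ) : ℂ) = 1 := by simp
      rw [this] at h12
      linear_combination h12
    rw [h13]
    push_cast
    ring
  right
  obtain ⟨k, hk⟩ := part_one_of_exc hK hP (isIrr_isCharacter ζ.2) θ.2 hS1 hSv
  rw [hm, hSc] at hk
  have hk' : (m θ : ℤ) = d * e + p * k := by exact_mod_cast hk
  have hp0 : (0 : ℤ) < p := by exact_mod_cast hp.pos
  have hkZ : ∀ j : ℕ, j ≤ k → (p : ℤ) * j ≤ p * k := fun j hj =>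
    mul_le_mul_of_nonneg_left (by exact_mod_cast hj) hp0.le
  have heT : e * 2 ≤ p - 1 := by
    rw [← het]
    exact Nat.mul_le_mul_left _ (by omega)
  -- at least two exceptional characters
  obtain ⟨ζ', hζ'X, hζ'ne⟩ : ∃ ζ' ∈ X, ζ' ≠ ζ := by
    apply Finset.exists_mem_ne
    rw [g4]
    omega
  have hother : ∀ g : G, ¬ p ∣ orderOf g → (ζ' : G → ℂ) g = (ζ : G → ℂ) g := by
    intro g hg
    have h1 := g11 ζ' hζ'X g hg
    have h2 := g11 ζ hX g hg
    rw [h1] at h2
    have hd0 : (d : ℂ) ≠ 0 := by rcases g6 with h | h <;> rw [h] <;> simp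
    exact mul_left_cancel₀ hd0 h2
  refine ⟨E, T, ?_⟩
  rcases g6 with hd | hd
  · -- plus
    right
    have hk0 : k = 0 := by
      by_contra hk0
      have h1 := hkZ 1 (by omega)
      rw [hd, one_mul] at hk'
      push_cast at h1
      omega
    have hme : m θ = e := by
      rw [hd, hk0] at hk'
      push_cast at hk'
      omega
    have hT2 : 2 ≤ T ∨ o ≠ 1 := by
      by_contra hcon
      push Not at hcon
      apply hT1
      rw [hcon.2, one_mul]
      omega
    have hEn : n = E * f θ := by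
      rw [hdeg', hme, ← hE]
      ring
    have hT2' : 2 ≤ T := by
      by_contra hlt'
      have hT' : T = 1 := by omega
      rw [hT', mul_one] at hT
      have : E ≤ n := by
        rw [hEn]
        exact Nat.le_mul_of_pos_right _ (hf0 θ)
      omega
    choose S' hS'c hS'1 hS'v using fun θ' : {θ' // θ' ∈ orb P K (θ : K → ℂ)} =>
      part_orb_of_exc hK (χ := ζ) hS1 hSv θ'.2
    refine ⟨hT.symm, hT2', rfl, θ, ?_, fun θ' => if h : θ' ∈ orb P K (θ : K → ℂ) then S' ⟨θ', h⟩ else S ζ, ?_, ?_⟩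
    · rw [hn, hEn, hf, Nat.cast_mul]
    · intro θ'
      dsimp only
      split_ifs with h
      · exact ⟨by rw [hS'c, hSc]; exact hE, hS'1 _⟩
      · exact ⟨by rw [hSc]; exact hE, hS1⟩
    · intro x
      have hkey : ∀ θ' ∈ orb P K (θ : K → ℂ), part (θ' : K → ℂ) (ζ : G → ℂ) x =
          ∑ l ∈ (if h : θ' ∈ orb P K (θ : K → ℂ) then S' ⟨θ', h⟩ else S ζ), ((l x : ℂˣ) : ℂ) := by
        intro θ' h
        rw [dif_pos h]
        by_cases hx : x = 1
        · rw [hx, sum_one, hS'c, hSc]
          show part (θ' : K → ℂ) (ζ : G → ℂ) ((1 : P) : G) = _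
          rw [OneMemClass.coe_one, part_one_orb hK (isIrr_isClassFunction ζ.2) h, hm, hme]
        · rw [hS'v ⟨θ', h⟩ x hx, hd]
          push_cast
          ring
      have h1 := sum_part (K := K) (isIrr_isClassFunction ζ.2) (x := (x : G)) (fun y hy => hK.comm x.2 hy) (1 : K)
      rw [← Finset.sum_subset (Finset.subset_univ (orb P K (θ : K → ℂ)))] at h1
      · rw [OneMemClass.coe_one, mul_one] at h1
        rw [h1, Finset.mul_sum]
        refine Finset.sum_congr rfl fun θ' h => ?_
        rw [hkey θ' h, orb_apply_one hK h, mul_comm]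
      · intro θ' _ h
        by_cases hx : x = 1
        · rw [hx, OneMemClass.coe_one, part_one_of_not_mem_orb hK hP hn (by (clear * - hlt; omega)) hθ h, zero_mul]
        · rw [part_eq_zero_of_not_mem_orb hK hP θ.2 hθ h hx, zero_mul]
  · -- minus
    left
    have hk1 : 1 ≤ k := by
      by_contra hk0
      have hk0 : k = 0 := by omega
      rw [hd, hk0] at hk'
      push_cast at hk'
      omega
    have h1 := hkZ 1 hk1
    rw [hd] at hk'
    push_cast at h1
    have hmge : p - e ≤ m θ := by omega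
    have hprod : o * (m θ * f θ) < 2 * (p - e) := by
      rw [← hdeg']
      (clear * - hlt heT; omega)
    have hof : o * f θ = 1 := by
      have h2 : o * f θ < 2 := by
        by_contra hge
        push Not at hge
        have : 2 * (p - e) ≤ (o * f θ) * m θ := Nat.mul_le_mul hge hmge
        have h3 : (o * f θ) * m θ = o * (m θ * f θ) := by ring
        omega
      have h3 : 0 < o * f θ := Nat.mul_pos ho0 (hf0 θ)
      omega
    have ho1 : o = 1 := Nat.eq_one_of_mul_eq_one_right hof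
    have hf1 : f θ = 1 := Nat.eq_one_of_mul_eq_one_left hof
    have hmn' : m θ = n := by rw [hdeg', ho1, hf1]; ring
    have hk1' : k = 1 := by
      by_contra hne
      have h2 := hkZ 2 (by omega)
      push_cast at h2
      omega
    have hme : m θ = p - e := by
      rw [hk1'] at hk'
      push_cast at hk'
      omega
    have heE : e = E := by rw [← hE, ho1, mul_one]
    have hT2 : 2 ≤ T := by
      rw [ho1, one_mul] at hT1
      omega
    have hst : ∀ n ∈ normalizer ((P : Subgroup G) : Set G), tw (θ : K → ℂ) n = θ := by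
      intro n hn
      have h2 : (⟨_, isIrr_tw hK θ.2 hn⟩ : IrrCharacter K) ∈ orb P K (θ : K → ℂ) := mem_orb.2 ⟨n, hn, rfl⟩
      rw [Finset.card_eq_one] at ho1
      obtain ⟨a, ha⟩ := ho1
      have h3 := self_mem_orb (P := P) θ
      rw [ha, Finset.mem_singleton] at h2 h3
      rw [← h3] at h2
      exact congrArg Subtype.val h2
    have hval : ∀ x ∈ P, ∀ y : K, (ζ : G → ℂ) (x * y) = part (θ : K → ℂ) (ζ : G → ℂ) x * (θ : K → ℂ) y := by
      intro x hx y
      by_cases hx1 : x = 1
      · subst hx1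
        rw [sum_part (K := K) (isIrr_isClassFunction ζ.2) (x := (1 : G)) (fun y hy => hK.comm (one_mem _) hy) y]
        rw [← Finset.sum_subset (Finset.subset_univ (orb P K (θ : K → ℂ)))]
        · rw [orb_of_stable θ.2 hst, Finset.sum_singleton]
        · intro θ' _ h
          rw [part_one_of_not_mem_orb hK hP hn (by (clear * - hn0 he0 hmn' hme; omega)) hθ h, zero_mul]
      · exact apply_of_stable hK hP θ.2 hst hθ (x := ⟨x, hx⟩) (fun h => hx1 (congrArg Subtype.val h)) y
    have hval1 : ∀ x ∈ P, (ζ : G → ℂ) x = part (θ : K → ℂ) (ζ : G → ℂ) x := by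
      intro x hx
      have h2 := hval x hx 1
      rwa [OneMemClass.coe_one, mul_one, hf, hf1, Nat.cast_one, mul_one] at h2
    refine ⟨hT.symm, hT2, by (clear * - hlt hmn' hme heE; omega), rfl, ?_, ⟨θ, ?_, ?_⟩, ⟨S ζ, ?_, hS1, ?_⟩, ⟨ζ', hζ'ne, hother⟩⟩
    · rw [hn, ← hmn', hme, heE]
    · rw [hf, hf1, Nat.cast_one]
    · intro x hx y
      rw [hval x hx y, hval1 x hx]
    · rw [hSc, heE]
    · intro x hx
      rw [hval1 x x.2, hSv x hx, hd]
      push_cast
      ring

end Cfsg.Agent.H655.Dichotomy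
end

-- part: H655/Closure
section
/-!
# The normal closure of the Sylow subgroup (helper655)

`G` finite, `P` a Sylow `p`-subgroup of order `p`, not normal, `ρ` a faithful complex representation of degree
`n < p - 1`. Then `M`, the normal closure of `P`, is perfect, `M / Z(M)` is simple and `p` does not divide `|Z(M)|`.
-/

set_option autoImplicit false
set_option linter.unusedSectionVars false
open Cfsg
open scoped commutatorElement

namespace Cfsg.Agent.H655.Closure

open Subgroup
open Cfsg.Agent.Characters.Core Cfsg.Agent.H655.Basic Cfsg.Agent.H655.PrimeNormal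

universe u

variable {G : Type u} [Group G] [Finite G] {p : ℕ} [Fact p.Prime]

theorem pow_eq_one {P : Sylow p G} (hP : Nat.card P = p) {x : G} (hx : x ∈ P) : x ^ p = 1 := by
  have h1 : (⟨x, hx⟩ : (P : Subgroup G)) ^ Nat.card (P : Subgroup G) = 1 := pow_card_eq_one'
  have h2 : Nat.card (P : Subgroup G) = p := hP
  rw [h2] at h1
  exact congrArg Subtype.val h1

theorem exists_ne_one {P : Sylow p G} (hP : Nat.card P = p) : ∃ x ∈ P, x ≠ 1 := by
  have : Nontrivial (P : Subgroup G) := by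
    rw [← Finite.one_lt_card_iff_nontrivial]
    have h2 : Nat.card (P : Subgroup G) = p := hP
    rw [h2]
    exact (Fact.out : p.Prime).one_lt
  obtain ⟨x, hx⟩ := exists_ne (1 : (P : Subgroup G))
  exact ⟨x, x.2, fun h => hx (Subtype.ext h)⟩

/-- An element of order dividing `p` of a subgroup of order prime to `p` is trivial. -/
theorem eq_one_of_pow {D : Subgroup G} (hD : ¬ p ∣ Nat.card D) {c : G} (hc : c ∈ D) (hcp : c ^ p = 1) : c = 1 := by
  have h1 := orderOf_dvd_of_pow_eq_one hcp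
  rcases (Nat.dvd_prime (Fact.out : p.Prime)).1 h1 with h2 | h2
  · exact orderOf_eq_one_iff.1 h2
  · exact absurd (h2 ▸ Subgroup.orderOf_dvd_natCard D hc) hD

variable {n : ℕ} (ρ : Representation ℂ G (Fin n → ℂ)) (hρ : Function.Injective ρ) (P : Sylow p G)
    (hP : Nat.card P = p) (hn : n + 1 < p) (hnn : ¬ (P : Subgroup G).Normal)

include hρ hP hn hnn in
/-- The normal closure of `P` is perfect. -/
theorem commutator_eq : commutator (normalClosure ((P : Subgroup G) : Set G)) = ⊤ := by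
  set M := normalClosure ((P : Subgroup G) : Set G) with hM
  have hMn : M.Normal := normalClosure_normal
  have hPM : (P : Subgroup G) ≤ M := subset_normalClosure
  have hD : (⁅M, M⁆ : Subgroup G).Normal := inferInstance
  by_cases hdvd : p ∣ Nat.card (⁅M, M⁆ : Subgroup G)
  · have h1 := le_of_dvd hP hD hdvd
    have h2 : M ≤ ⁅M, M⁆ := normalClosure_le_normal h1
    have h3 : ⁅M, M⁆ = M := le_antisymm (Subgroup.commutator_le_left M M) h2
    have h4 := Subgroup.map_commutator (⊤ : Subgroup M) ⊤ M.subtype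
    rw [← commutator_def] at h4
    have h5 : (⊤ : Subgroup M).map M.subtype = M := by
      rw [← MonoidHom.range_eq_map, Subgroup.range_subtype]
    rw [h5, h3] at h4
    rw [eq_top_iff]
    intro x _
    have h6 : (x : G) ∈ (commutator M).map M.subtype := by rw [h4]; exact x.2
    obtain ⟨y, hy, hyx⟩ := h6
    have : y = x := Subtype.ext hyx
    rwa [← this]
  · exfalso
    apply hnn
    apply normal_of_le_normalizer hMn hPM
    refine le_trans ?_ (Subgroup.centralizer_le_normalizer _)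
    intro m hm
    rw [mem_centralizer_iff]
    intro x hx
    have hx : x ∈ (P : Subgroup G) := hx
    have h1 : ⁅m, x⁆ ∈ (⁅M, M⁆ : Subgroup G) := commutator_mem_commutator hm (hPM hx)
    have h2 := comm_of_pprime ρ hρ P hP hn hD hdvd _ h1 x hx
    set c := ⁅m, x⁆ with hc
    have h3 : m * x * m⁻¹ = c * x := by rw [hc, commutatorElement_def]; group
    have h4 : c ^ p = 1 := by
      have h5 : (c * x) ^ p = 1 := by rw [← h3, conj_pow, pow_eq_one hP hx]; simp
      have h6 : Commute c x := h2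
      rwa [h6.mul_pow, pow_eq_one hP hx, mul_one] at h5
    have h5 := eq_one_of_pow hdvd h1 h4
    rw [h5, one_mul, mul_inv_eq_iff_eq_mul] at h3
    exact h3.symm

include hρ hP hn hnn in
theorem not_dvd_card_center : ¬ p ∣ Nat.card (center (normalClosure ((P : Subgroup G) : Set G))) := by
  set M := normalClosure ((P : Subgroup G) : Set G) with hM
  have hMn : M.Normal := normalClosure_normal
  have hPM : (P : Subgroup G) ≤ M := subset_normalClosure
  intro hdvd
  apply hnn
  apply normal_of_le_normalizer hMn hPM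
  refine le_trans ?_ (Subgroup.centralizer_le_normalizer _)
  intro m hm
  rw [mem_centralizer_iff]
  intro x hx
  have hx : x ∈ (P : Subgroup G) := hx
  let PM : Sylow p M := P.subtype hPM
  have hPMc : Nat.card PM = p := (Nat.card_congr (Subgroup.subgroupOfEquivOfLe hPM).toEquiv).trans hP
  have h1 := le_of_dvd hPMc (inferInstance : (center M).Normal) hdvd
  have h2 : (⟨x, hPM hx⟩ : M) ∈ center M := h1 (show (⟨x, hPM hx⟩ : M) ∈ (PM : Subgroup M) from hx)
  have h3 := mem_center_iff.1 h2 ⟨m, hm⟩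
  exact (congrArg Subtype.val h3).symm

include hρ hP hn hnn in
/-- `M / Z(M)` is simple. -/
theorem isSimpleGroup_quotient : IsSimpleGroup (normalClosure ((P : Subgroup G) : Set G) ⧸
    center (normalClosure ((P : Subgroup G) : Set G))) := by
  have hcz := not_dvd_card_center ρ hρ P hP hn hnn
  set M := normalClosure ((P : Subgroup G) : Set G) with hM
  obtain ⟨R, hR, hRG, hsimple, hnd, hdvd, hmax⟩ := exists_section P hP
  have hMn : M.Normal := normalClosure_normal
  have hPM : (P : Subgroup G) ≤ M := subset_normalClosure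
  have h1 : center M ≤ R := hmax _ inferInstance hcz
  have h2 : R ≤ center M := by
    have h3 : M ≤ centralizer ((R.map M.subtype : Subgroup G) : Set G) := by
      have := hRG
      have : (centralizer ((R.map M.subtype : Subgroup G) : Set G)).Normal := inferInstance
      apply normalClosure_le_normal
      intro x hx
      rw [SetLike.mem_coe, mem_centralizer_iff]
      intro u hu
      refine comm_of_pprime ρ hρ P hP hn hRG ?_ u hu x hx
      rwa [Nat.card_congr (R.equivMapOfInjective M.subtype M.subtype_injective).toEquiv.symm]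
    intro r hr
    rw [mem_center_iff]
    intro m
    have h4 := mem_centralizer_iff.1 (h3 m.2) (r : G) ⟨r, hr, rfl⟩
    exact Subtype.ext h4.symm
  have h3 : R = center M := le_antisymm h2 h1
  subst h3
  exact hsimple

theorem not_commutative {M : Type*} [Group M] (hperf : commutator M = ⊤) (Z : Subgroup M) [Z.Normal]
    [Nontrivial (M ⧸ Z)] : ¬ ∀ a b : M ⧸ Z, a * b = b * a := by
  intro hcomm
  have h1 : commutator M ≤ Z := by
    rw [commutator_def, Subgroup.commutator_le]
    intro a _ b _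
    rw [← QuotientGroup.eq_one_iff]
    show (QuotientGroup.mk (a * b * a⁻¹ * b⁻¹) : M ⧸ Z) = 1
    rw [QuotientGroup.mk_mul, QuotientGroup.mk_mul, QuotientGroup.mk_mul, hcomm (QuotientGroup.mk a),
      QuotientGroup.mk_inv, QuotientGroup.mk_inv]
    group
  rw [hperf, top_le_iff] at h1
  obtain ⟨a, b, hab⟩ := exists_pair_ne (M ⧸ Z)
  apply hab
  obtain ⟨a, rfl⟩ := QuotientGroup.mk_surjective a
  obtain ⟨b, rfl⟩ := QuotientGroup.mk_surjective b
  rw [QuotientGroup.eq, h1]
  trivial

end Cfsg.Agent.H655.Closure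
end

-- part: H655/MinusCase
section
/-!
# The minus case (helper655)

`G` finite, `P` a Sylow `p`-subgroup of order `p`, not normal, `ζ` a faithful irreducible character of `G` of degree
`p - E` as in `Dichotomy.Minus`. Let `M` be the normal closure of `P`. Then `K = Z(G)`, the restriction of `ζ` to `M`
is irreducible and again in the minus case, with the same `E`, and `G = M Z(G)`.
-/

set_option autoImplicit false
set_option linter.unusedSectionVars false
open Cfsg
open scoped ComplexConjugate commutatorElement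

namespace Cfsg.Agent.H655.MinusCase

open Subgroup
open Cfsg.Agent.Characters.Core Cfsg.Agent.Characters.Linear
open Cfsg.Agent.SmallSimple.PrimeDual Cfsg.Agent.SmallSimple.ThetaSetup
open Cfsg.Agent.SmallSimple.ThetaOrtho Cfsg.Agent.SmallSimple.ThetaGroup
open Cfsg.Agent.SmallSimple.ThetaCount Cfsg.Agent.SmallSimple.TheoremC
open Cfsg.Agent.SmallSimple.TheoremCCor
open Cfsg.Agent.H655.Basic Cfsg.Agent.H655.Closure Cfsg.Agent.H655.Dichotomy

universe u

variable {G : Type u} [Group G] [Finite G] {p : ℕ} [Fact p.Prime] {P : Sylow p G}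
  {K : Subgroup G}

/-! ### sums over `P` -/

theorem sum_P_minus {ζ : IrrCharacter G} {E t : ℕ} (h : Minus P K ζ E t)
    [Fintype ↥(P : Subgroup G)] : ∑ x : ↥(P : Subgroup G), (ζ : G → ℂ) x = p := by
  obtain ⟨S, hS, hS1, hv⟩ := h.vals
  have h1 := SmallSimple.TheoremBCor.sum_exc_off (f := fun x : ↥(P : Subgroup G) => (ζ : G → ℂ) x) (d := -1) hS1
    (fun x hx => by rw [hv x hx]; simp)
  have h2 : ((1 : ↥(P : Subgroup G)) : G) = 1 := rfl
  rw [h1, h2, h.deg, hS]
  have h3 : E ≤ p := by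
    have h4 := h.het
    have h5 := h.two_le
    have h6 := (Fact.out : p.Prime).two_le
    have : E * 1 ≤ E * t := Nat.mul_le_mul_left _ (by omega)
    omega
  rw [Nat.cast_sub h3]
  ring

theorem sum_P_plus {ζ : IrrCharacter G} {E t : ℕ} (h : Plus P K ζ E t)
    [Fintype ↥(P : Subgroup G)] : ∑ x : ↥(P : Subgroup G), (ζ : G → ℂ) x = 0 := by
  obtain ⟨θ, -, S, hS, hv⟩ := h.theta
  rw [Finset.sum_congr rfl fun x _ => hv x, ← Finset.mul_sum, Finset.sum_comm, Finset.sum_eq_zero, mul_zero]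
  intro θ' _
  have h1 := SmallSimple.TheoremBCor.sum_exc_off
    (f := fun x : ↥(P : Subgroup G) => ∑ l ∈ S θ', ((l x : ℂˣ) : ℂ)) (d := 1) (hS θ').2
    (fun x _ => by rw [one_mul])
  rw [h1]
  simp

theorem sum_P_char (hP : Nat.card P = p) {χ : G → ℂ} (hχ : IsCharacter G χ) [Fintype ↥(P : Subgroup G)] :
    ∃ c : ℕ, ∑ x : ↥(P : Subgroup G), χ x = (p * c : ℕ) := by
  obtain ⟨m, hm⟩ := classInner_isNat (isCharacter_comp (P : Subgroup G).subtype hχ)
    (isCharacter_one (G := (P : Subgroup G)))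
  rw [classInner_def] at hm
  have hc0 : (Nat.card (P : Subgroup G) : ℂ) ≠ 0 := card_ne_zero_complex
  rw [inv_mul_eq_iff_eq_mul₀ hc0] at hm
  refine ⟨m, ?_⟩
  have h2 : Nat.card (P : Subgroup G) = p := hP
  rw [h2] at hm
  rw [Nat.cast_mul, ← hm]
  exact Finset.sum_congr rfl fun x _ => by simp

/-! ### centres -/

theorem norm_theta {K : Subgroup G} {θ : IrrCharacter K} (h : (θ : K → ℂ) 1 = 1) (y : K) : ‖(θ : K → ℂ) y‖ = 1 := by
  obtain ⟨f, hf⟩ := exists_hom_of_isIrrCharacter θ.2 h
  rw [hf]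
  exact norm_hom_apply f y

theorem K_le_center {ζ : IrrCharacter G} {E t : ℕ} (h : Minus P K ζ E t)
    (hfaith : ∀ g : G, (ζ : G → ℂ) g = (ζ : G → ℂ) 1 → g = 1) : K ≤ center G := by
  obtain ⟨θ, hθ1, hθ⟩ := h.theta
  intro y hy
  apply mem_center_of_norm (isIrr_isCharacter ζ.2) hfaith
  have h1 := hθ 1 (one_mem _) ⟨y, hy⟩
  rw [show (1 : G) * ((⟨y, hy⟩ : K) : G) = y from one_mul y] at h1
  rw [h1, norm_mul, norm_theta hθ1, mul_one]

theorem center_le_K (hK : IsComp p (P : Subgroup G) K) (hP : Nat.card P = p) (hnn : ¬ (P : Subgroup G).Normal) :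
    center G ≤ K := by
  intro z hz
  rw [hK]
  refine ⟨Subgroup.center_le_centralizer _ hz, fun hdvd => ?_⟩
  apply hnn
  have h1 : p ∣ Nat.card (center G) := hdvd.trans (Subgroup.orderOf_dvd_natCard _ hz)
  have h2 := le_of_dvd hP (inferInstance : (center G).Normal) h1
  refine ⟨fun x hx g => ?_⟩
  have h3 := mem_center_iff.1 (h2 hx) g
  rw [h3, mul_inv_cancel_right]
  exact hx

/-! ### comparing the normalizers -/

variable {M : Subgroup G}

theorem centralizer_subtype (hPM : (P : Subgroup G) ≤ M) :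
    centralizer (((P.subtype hPM : Sylow p M) : Subgroup M) : Set M) =
      (centralizer ((P : Subgroup G) : Set G)).subgroupOf M := by
  ext m
  rw [mem_centralizer_iff, mem_subgroupOf, mem_centralizer_iff]
  constructor
  · intro h x hx
    exact congrArg Subtype.val (h ⟨x, hPM hx⟩ hx)
  · intro h x hx
    exact Subtype.ext (h x hx)

theorem normalizer_subtype (hPM : (P : Subgroup G) ≤ M) :
    normalizer (((P.subtype hPM : Sylow p M) : Subgroup M) : Set M) =
      (normalizer ((P : Subgroup G) : Set G)).subgroupOf M := by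
  ext m
  rw [mem_subgroupOf]
  constructor
  · intro h
    rw [mem_normalizer_iff_map_conj_eq]
    apply Subgroup.eq_of_le_of_card_ge
    · rintro _ ⟨y, hy, rfl⟩
      exact ((Subgroup.mem_normalizer_iff.1 h) ⟨y, hPM hy⟩).1 hy
    · rw [Subgroup.card_map_of_injective (MulEquiv.injective _)]
  · intro h
    rw [mem_normalizer_iff]
    intro x
    exact (Subgroup.mem_normalizer_iff.1 h) x

theorem relIndex_subtype (hPM : (P : Subgroup G) ≤ M) :
    (centralizer (((P.subtype hPM : Sylow p M) : Subgroup M) : Set M)).relIndex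
      (normalizer (((P.subtype hPM : Sylow p M) : Subgroup M) : Set M)) =
      (centralizer ((P : Subgroup G) : Set G)).relIndex (normalizer ((P : Subgroup G) : Set G) ⊓ M) := by
  rw [centralizer_subtype, normalizer_subtype, ← inf_subgroupOf_right (normalizer ((P : Subgroup G) : Set G)),
    relIndex_subgroupOf inf_le_right]

theorem relIndex_ne_zero' : (centralizer ((P : Subgroup G) : Set G)).relIndex (normalizer ((P : Subgroup G) : Set G)) ≠ 0 :=
  Subgroup.index_ne_zero_of_finite

theorem relIndex_le (hPM : (P : Subgroup G) ≤ M) :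
    (centralizer (((P.subtype hPM : Sylow p M) : Subgroup M) : Set M)).relIndex
      (normalizer (((P.subtype hPM : Sylow p M) : Subgroup M) : Set M)) ≤
      (centralizer ((P : Subgroup G) : Set G)).relIndex (normalizer ((P : Subgroup G) : Set G)) := by
  rw [relIndex_subtype]
  exact relIndex_le_of_le_right inf_le_left relIndex_ne_zero'

/-- If the indices are equal then `G = M C(P)`. -/
theorem sup_eq_top (hM : M.Normal) (hPM : (P : Subgroup G) ≤ M)
    (h : (centralizer (((P.subtype hPM : Sylow p M) : Subgroup M) : Set M)).relIndex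
      (normalizer (((P.subtype hPM : Sylow p M) : Subgroup M) : Set M)) =
      (centralizer ((P : Subgroup G) : Set G)).relIndex (normalizer ((P : Subgroup G) : Set G))) :
    M ⊔ centralizer ((P : Subgroup G) : Set G) = ⊤ := by
  have h1 := Sylow.normalizer_sup_eq_top' (N := M) P hPM
  rw [relIndex_subtype] at h
  set N := normalizer ((P : Subgroup G) : Set G) with hN
  set C := centralizer ((P : Subgroup G) : Set G) with hC
  have hCN : C ≤ N := Subgroup.centralizer_le_normalizer _
  have hCn : (C.subgroupOf N).Normal := by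
    rw [hC, hN]
    infer_instance
  have h2 : N ≤ M ⊔ C := by
    have h3 : (C.subgroupOf N).relIndex ((M ⊓ N).subgroupOf N) = C.relIndex (M ⊓ N) :=
      relIndex_subgroupOf inf_le_right
    have h4 : (C.subgroupOf N).relIndex ((M ⊓ N).subgroupOf N ⊔ C.subgroupOf N) =
        (C.subgroupOf N).relIndex ((M ⊓ N).subgroupOf N) := relIndex_sup_right _ _
    have h5 : (C.subgroupOf N).relIndex ((M ⊓ N).subgroupOf N ⊔ C.subgroupOf N) *
        ((M ⊓ N).subgroupOf N ⊔ C.subgroupOf N).index = (C.subgroupOf N).index :=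
      relIndex_mul_index le_sup_right
    have h6 : (C.subgroupOf N).index = C.relIndex N := rfl
    rw [h4, h3, inf_comm, h, h6] at h5
    have h7 : C.relIndex N ≠ 0 := Subgroup.index_ne_zero_of_finite
    have h8 : ((N ⊓ M).subgroupOf N ⊔ C.subgroupOf N).index = 1 :=
      Nat.eq_of_mul_eq_mul_left (Nat.pos_of_ne_zero h7) (by rw [h5, mul_one])
    rw [Subgroup.index_eq_one] at h8
    intro x hx
    have h9 : (⟨x, hx⟩ : N) ∈ ((N ⊓ M).subgroupOf N ⊔ C.subgroupOf N) := by rw [h8]; trivial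
    have h10 : ((N ⊓ M).subgroupOf N ⊔ C.subgroupOf N) ≤ (M ⊔ C).subgroupOf N := by
      refine sup_le ?_ ?_
      · intro y hy
        exact (le_sup_left : M ≤ M ⊔ C) hy.2
      · intro y hy
        exact (le_sup_right : C ≤ M ⊔ C) hy
    exact h10 h9
  rw [eq_top_iff, ← h1]
  exact sup_le h2 le_sup_left

/-- `Z(G)` and `P` generate the centralizer. -/
theorem centralizer_le (hK : IsComp p (P : Subgroup G) K) (hP : Nat.card P = p) (hPM : (P : Subgroup G) ≤ M)
    (hKZ : K ≤ center G) : centralizer ((P : Subgroup G) : Set G) ≤ M ⊔ center G := by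
  intro c hc
  obtain ⟨x, hx, y, hy, rfl⟩ := hK.exists_mul hP hc
  exact mul_mem ((le_sup_left : M ≤ M ⊔ center G) (hPM hx)) ((le_sup_right : center G ≤ M ⊔ center G) (hKZ hy))

/-! ### The restriction to the normal closure -/

/-- If `P` is in the kernel of a character of `M` then `M` is. -/
theorem apply_eq_of_P (hM : M = normalClosure ((P : Subgroup G) : Set G)) (hPM : (P : Subgroup G) ≤ M) {ψ : M → ℂ}
    (hψ : IsCharacter M ψ) (h : ∀ x ∈ (P.subtype hPM : Sylow p M), ψ x = ψ 1) (m : M) : ψ m = ψ 1 := by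
  obtain ⟨n, ρ, rfl⟩ := hψ
  have hMn : M.Normal := by rw [hM]; exact normalClosure_normal
  -- kernel
  have hker : ∀ m : M, ρ.character m = ρ.character 1 ↔ ρ m = 1 := by
    intro m
    rw [Representation.char_one]
    exact Characters.Values.character_eq_finrank_iff ρ m
  rw [hker]
  let S : Subgroup M := MonoidHom.ker (ρ : M →* _)
  have hS : ∀ m : M, m ∈ S ↔ ρ m = 1 := fun m => MonoidHom.mem_ker
  have hPS : ∀ x : G, ∀ hx : x ∈ (P : Subgroup G), (⟨x, hPM hx⟩ : M) ∈ S := by
    intro x hx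
    rw [hS, ← hker]
    exact h ⟨x, hPM hx⟩ hx
  have hle : M ≤ S.map M.subtype := by
    have hgen : Group.conjugatesOfSet ((P : Subgroup G) : Set G) ⊆ (S.map M.subtype : Subgroup G) := by
      intro y hy
      rw [Group.mem_conjugatesOfSet_iff] at hy
      obtain ⟨x, hx, hxy⟩ := hy
      obtain ⟨g, hg⟩ := isConj_iff.1 hxy
      -- `g P g⁻¹` is conjugate to `P` in `M`
      have h1 : ((g • P : Sylow p G) : Subgroup G) ≤ M := by
        intro y hy
        rw [Sylow.coe_subgroup_smul] at hy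
        obtain ⟨z, hz, rfl⟩ := hy
        exact hMn.conj_mem z (hPM hz) g
      obtain ⟨m, hm⟩ := MulAction.exists_smul_eq M (P.subtype hPM) ((g • P).subtype h1)
      have hyg : y ∈ ((g • P : Sylow p G) : Subgroup G) := by
        rw [Sylow.coe_subgroup_smul, ← hg]
        exact ⟨x, hx, rfl⟩
      have h2 : (⟨y, h1 hyg⟩ : M) ∈ (((g • P).subtype h1 : Sylow p M) : Subgroup M) := hyg
      rw [← hm, Sylow.coe_subgroup_smul] at h2
      obtain ⟨z, hz, hzy⟩ := h2
      refine ⟨⟨y, h1 hyg⟩, ?_, rfl⟩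
      rw [← hzy]
      have h3 : z ∈ S := hPS z hz
      exact (MonoidHom.normal_ker (ρ : M →* _)).conj_mem z h3 m
    conv_lhs => rw [hM]
    exact (closure_le (K := S.map M.subtype)).2 hgen
  obtain ⟨y, hy, hym⟩ := hle m.2
  have : y = m := Subtype.ext hym
  rw [← this]
  exact (hS y).1 hy

/-- A faithful irreducible representation of a group with a nontrivial normal subgroup has no fixed vectors
of this subgroup. -/
theorem sum_eq_zero {n : ℕ} (ρ : Representation ℂ G (Fin n → ℂ)) (hρ : ρ.IsIrreducible)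
    (hinj : Function.Injective ρ) (hM : M.Normal) (hM1 : M ≠ ⊥) [Fintype M] : ∑ m : M, ρ.character m = 0 := by
  classical
  have := hρ
  have h0 : ∑ m : M, ρ m = 0 := by
    by_contra hne
    obtain ⟨v, hv⟩ : ∃ v, (∑ m : M, ρ m) v ≠ 0 := by
      by_contra hcon
      push Not at hcon
      exact hne (LinearMap.ext hcon)
    let U : Submodule ℂ (Fin n → ℂ) :=
      { carrier := {w | ∀ m : M, ρ m w = w}
        add_mem' := fun {a b} ha hb m => by rw [map_add, ha m, hb m]
        zero_mem' := fun m => map_zero _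
        smul_mem' := fun c a ha m => by rw [map_smul, ha m] }
    have hU : ∀ g, ∀ u ∈ U, ρ g u ∈ U := by
      intro g u hu m
      have h1 : g⁻¹ * (m : G) * g ∈ M := by
        have := hM.conj_mem m m.2 g⁻¹
        rwa [inv_inv] at this
      have h2 := hu ⟨_, h1⟩
      calc ρ m (ρ g u) = ρ g (ρ (g⁻¹ * m * g) u) := by
            rw [← Module.End.mul_apply, ← Module.End.mul_apply, ← map_mul, ← map_mul]
            congr 2
            group
        _ = ρ g u := by rw [show ρ (g⁻¹ * (m : G) * g) u = u from h2]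
    have hU0 : U ≠ ⊥ := by
      intro h
      apply hv
      have h1 : (∑ m : M, ρ m) v ∈ U := by
        intro m
        rw [LinearMap.sum_apply, map_sum]
        refine Fintype.sum_equiv (Equiv.mulLeft m) _ _ fun x => ?_
        rw [← Module.End.mul_apply, ← map_mul]
        rfl
      rw [h, Submodule.mem_bot] at h1
      exact h1
    have hUtop := Characters.DegreeBounds.eq_top_of_stable ρ U hU hU0
    apply hM1
    rw [eq_bot_iff]
    intro m hm
    rw [mem_bot]
    apply hinj
    rw [map_one]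
    refine LinearMap.ext fun w => ?_
    have hw : w ∈ U := by rw [hUtop]; trivial
    exact hw ⟨m, hm⟩
  have h1 := congrArg (LinearMap.trace ℂ (Fin n → ℂ)) h0
  rw [map_sum, map_zero] at h1
  exact h1

/-- **The restriction in the minus case.** -/
theorem restrict (hP : Nat.card P = p) {ζ : IrrCharacter G} {E t : ℕ} (h : Minus P K ζ E t)
    (hfaith : ∀ g : G, (ζ : G → ℂ) g = (ζ : G → ℂ) 1 → g = 1)
    (hM : M = normalClosure ((P : Subgroup G) : Set G)) (hPM : (P : Subgroup G) ≤ M) {KM : Subgroup M}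
    (hKM : IsComp p ((P.subtype hPM : Sylow p M) : Subgroup M) KM) :
    ∃ ζM : IrrCharacter M, (∀ m : M, (ζM : M → ℂ) m = (ζ : G → ℂ) m) ∧ Minus (P.subtype hPM) KM ζM E t := by
  classical
  have hp : p.Prime := Fact.out
  have hp2 := hp.two_le
  have hMn : M.Normal := by rw [hM]; exact normalClosure_normal
  let PM : Sylow p M := P.subtype hPM
  have hPMc : Nat.card PM = p := (Nat.card_congr (Subgroup.subgroupOfEquivOfLe hPM).toEquiv).trans hP
  have : Finite (IrrCharacter M) := finite_irr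
  have := Fintype.ofFinite (IrrCharacter M)
  have := Fintype.ofFinite M
  have := Fintype.ofFinite ↥(P : Subgroup G)
  have := Fintype.ofFinite ↥(PM : Subgroup M)
  have hres : IsCharacter M (fun m : M => (ζ : G → ℂ) m) := isCharacter_comp M.subtype (isIrr_isCharacter ζ.2)
  obtain ⟨n, hn⟩ := exists_nat_comb hres
  have hn' : ∀ m : M, (ζ : G → ℂ) m = ∑ ψ : IrrCharacter M, (n ψ : ℂ) * (ψ : M → ℂ) m := by
    intro m
    have h1 := congrFun hn m
    simp only [Finset.sum_apply, nsmul_eq_mul] at h1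
    exact h1
  choose c hc using fun ψ : IrrCharacter M => sum_P_char (P := PM) hPMc (isIrr_isCharacter ψ.2)
  choose d hd0 hd using fun ψ : IrrCharacter M => isIrr_apply_one ψ.2
  -- the sum over `P`
  have hsumP : ∑ x : ↥(PM : Subgroup M), (ζ : G → ℂ) (x : M) = p := by
    rw [← sum_P_minus h]
    let e : ↥(PM : Subgroup M) ≃ ↥(P : Subgroup G) := (Subgroup.subgroupOfEquivOfLe hPM).toEquiv
    exact Fintype.sum_equiv e
      (fun x : ↥(PM : Subgroup M) => (ζ : G → ℂ) (x : M)) (fun x : ↥(P : Subgroup G) => (ζ : G → ℂ) x) fun x => rfl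
  have hc1 : ∑ ψ : IrrCharacter M, n ψ * c ψ = 1 := by
    have h1 : ((p * ∑ ψ : IrrCharacter M, n ψ * c ψ : ℕ) : ℂ) = (p : ℕ) := by
      have h2 : ∑ x : ↥(PM : Subgroup M), (ζ : G → ℂ) (x : M) =
          ∑ ψ : IrrCharacter M, (n ψ : ℂ) * ∑ x : ↥(PM : Subgroup M), (ψ : M → ℂ) (x : M) := by
        simp_rw [Finset.mul_sum]
        rw [Finset.sum_comm]
        exact Finset.sum_congr rfl fun x _ => hn' (x : M)
      rw [← hsumP, h2]
      push_cast
      rw [Finset.mul_sum]
      refine Finset.sum_congr rfl fun ψ _ => ?_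
      rw [hc ψ]
      push_cast
      ring
    have h2 : p * ∑ ψ : IrrCharacter M, n ψ * c ψ = p := by exact_mod_cast h1
    exact Nat.eq_of_mul_eq_mul_left hp.pos (by rw [h2, mul_one])
  obtain ⟨ψ₀, hψ₀⟩ : ∃ ψ₀ : IrrCharacter M, n ψ₀ * c ψ₀ ≠ 0 := by
    by_contra hcon
    push Not at hcon
    rw [Finset.sum_eq_zero fun ψ _ => hcon ψ] at hc1
    exact zero_ne_one hc1
  have hn0 : n ψ₀ ≠ 0 := left_ne_zero_of_mul hψ₀
  have hc0 : c ψ₀ ≠ 0 := right_ne_zero_of_mul hψ₀
  have hEt := h.het
  have ht2 := h.two_le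
  have hE1 := h.two_le_E
  have hE2 : E * 2 ≤ p - 1 := by rw [← hEt]; exact Nat.mul_le_mul_left _ ht2
  have hE0 : 0 < E := by
    rcases Nat.eq_zero_or_pos E with h0 | h0
    · rw [h0, zero_mul] at hEt; omega
    · exact h0
  -- degrees
  have hdsum : p - E = ∑ ψ : IrrCharacter M, n ψ * d ψ := by
    have h1 := hn' 1
    rw [OneMemClass.coe_one, h.deg] at h1
    have h2 : ((p - E : ℕ) : ℂ) = ((∑ ψ : IrrCharacter M, n ψ * d ψ : ℕ) : ℂ) := by
      rw [h1]
      push_cast
      exact Finset.sum_congr rfl fun ψ _ => by rw [hd]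
    exact_mod_cast h2
  have hle : n ψ₀ * d ψ₀ ≤ p - E := by
    rw [hdsum]
    exact Finset.single_le_sum (f := fun ψ => n ψ * d ψ) (fun _ _ => Nat.zero_le _) (Finset.mem_univ ψ₀)
  have hdle : d ψ₀ ≤ n ψ₀ * d ψ₀ := Nat.le_mul_of_pos_left _ (Nat.pos_of_ne_zero hn0)
  rcases dichotomy (P := PM) hKM hPMc (hd ψ₀) (by omega) with h1 | ⟨E', t', h1 | h1⟩
  · -- `P` in the kernel
    exfalso
    have h2 := apply_eq_of_P hM hPM (isIrr_isCharacter ψ₀.2) h1
    obtain ⟨k, ρ, hρirr, hρ, hρζ, hk⟩ := exists_rep ζ.2 hfaith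
    have hM1 : M ≠ ⊥ := by
      obtain ⟨x, hx, hx1⟩ := Closure.exists_ne_one hP
      intro h
      apply hx1
      have := hPM hx
      rwa [h, mem_bot] at this
    have h3 := sum_eq_zero ρ hρirr hρ hMn hM1
    rw [hρζ] at h3
    -- inner product with `ψ₀`
    have h4 : ∑ m : M, (ζ : G → ℂ) m * conj ((ψ₀ : M → ℂ) m) = 0 := by
      rw [Finset.sum_congr rfl fun m _ => by rw [h2 m], ← Finset.sum_mul, h3, zero_mul]
    have h5 : classInner (fun m : M => (ζ : G → ℂ) m) (ψ₀ : M → ℂ) = n ψ₀ := by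
      rw [hn, classInner_sum_nsmul_irr]
    rw [classInner_def, h4, mul_zero] at h5
    exact hn0 (by exact_mod_cast h5.symm)
  · have h2 : E' ≤ E := by
      rw [← h1.relIndex, ← h.relIndex]
      exact relIndex_le hPM
    have h3 : d ψ₀ = p - E' := by
      have := (hd ψ₀).symm.trans h1.deg
      exact_mod_cast this
    have h4 : E' = E := by (clear * - hE2 hle hdle h2 h3; omega)
    subst h4
    have h5 : t' = t := by
      have h6 := h1.het
      rw [← hEt] at h6
      exact Nat.eq_of_mul_eq_mul_left hE0 h6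
    subst h5
    have h6 : n ψ₀ = 1 := by
      by_contra hne
      have h7 : 2 * d ψ₀ ≤ n ψ₀ * d ψ₀ := Nat.mul_le_mul_right _ (by omega)
      (clear * - h3 hE1 hE2 hle h7; omega)
    have h7 : ∀ ψ, ψ ≠ ψ₀ → n ψ = 0 := by
      intro ψ hψ
      have h8 := Finset.add_le_sum (f := fun ψ : IrrCharacter M => n ψ * d ψ) (s := Finset.univ)
        (fun _ _ => Nat.zero_le _) (Finset.mem_univ ψ₀) (Finset.mem_univ ψ) hψ.symm
      rw [← hdsum, h6, one_mul] at h8
      have h9 : n ψ * d ψ = 0 := by omega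
      rcases Nat.mul_eq_zero.1 h9 with h10 | h10
      · exact h10
      · exact absurd h10 (hd0 ψ).ne'
    refine ⟨ψ₀, fun m => ?_, h1⟩
    rw [hn' m, Finset.sum_eq_single ψ₀]
    · rw [h6, Nat.cast_one, one_mul]
    · intro ψ _ hψ
      rw [h7 ψ hψ, Nat.cast_zero, zero_mul]
    · intro h
      exact absurd (Finset.mem_univ _) h
  · exfalso
    have h2 := sum_P_plus h1
    rw [hc ψ₀] at h2
    have h3 : p * c ψ₀ = 0 := by exact_mod_cast h2
    rcases Nat.mul_eq_zero.1 h3 with h4 | h4
    · exact hp.ne_zero h4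
    · exact hc0 h4

end Cfsg.Agent.H655.MinusCase
end

-- part: H655/Bound
section
/-!
# The degree bound (helper655)

In the minus case every irreducible character of degree prime to `p` which is trivial on `K` has degree at most
`(p - E)²` (`bound`).
-/

set_option autoImplicit false
set_option linter.unusedSectionVars false
open Cfsg
open scoped ComplexConjugate commutatorElement

namespace Cfsg.Agent.H655.Bound

open Subgroup
open Cfsg.Agent.Characters.Core Cfsg.Agent.Characters.Linear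
open Cfsg.Agent.SmallSimple.PrimeDual Cfsg.Agent.SmallSimple.ThetaSetup
open Cfsg.Agent.SmallSimple.ThetaOrtho Cfsg.Agent.SmallSimple.ThetaGroup
open Cfsg.Agent.SmallSimple.ThetaCount Cfsg.Agent.SmallSimple.TheoremC
open Cfsg.Agent.SmallSimple.TheoremCCor
open Cfsg.Agent.H655.Basic Cfsg.Agent.H655.Closure Cfsg.Agent.H655.Dichotomy

universe u

variable {G : Type u} [Group G] [Finite G] {p : ℕ} [Fact p.Prime] {P : Sylow p G}
  {K : Subgroup G}

/-- A `p`-singular element is conjugate to a product of a nontrivial element of `P` and an element of `K`. -/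
theorem exists_conj_mul (hK : IsComp p (P : Subgroup G) K) (hP : Nat.card P = p) {g : G} (hg : p ∣ orderOf g) :
    ∃ h : G, ∃ x ∈ P, x ≠ 1 ∧ ∃ y ∈ K, h * g * h⁻¹ = x * y := by
  have hp : p.Prime := Fact.out
  obtain ⟨k, hk⟩ := hg
  have hg0 : 0 < orderOf g := orderOf_pos g
  have hk0 : k ≠ 0 := by rintro rfl; omega
  have hgk : orderOf (g ^ k) = p := by
    rw [orderOf_pow_of_dvd hk0 (Dvd.intro_left p hk.symm), hk, Nat.mul_div_cancel _ (by omega)]
  have h1 : IsPGroup p (zpowers (g ^ k)) :=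
    IsPGroup.of_card (n := 1) (by rw [Nat.card_zpowers, hgk, pow_one])
  obtain ⟨Q, hQ⟩ := h1.exists_le_sylow
  obtain ⟨h, hh⟩ := MulAction.exists_smul_eq G Q P
  have hmem : h * g ^ k * h⁻¹ ∈ (P : Subgroup G) := by
    rw [← hh, Sylow.coe_subgroup_smul]
    exact ⟨g ^ k, hQ (mem_zpowers _), rfl⟩
  set x₀ := h * g ^ k * h⁻¹ with hx₀
  have hx₀1 : x₀ ≠ 1 := by
    intro h2
    have h3 : g ^ k = 1 := by
      have h4 : g ^ k = h⁻¹ * x₀ * h := by rw [hx₀]; group
      rw [h4, h2]; group
    rw [h3, orderOf_one] at hgk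
    exact hp.one_lt.ne hgk
  have hc : h * g * h⁻¹ ∈ centralizer ((P : Subgroup G) : Set G) := by
    rw [mem_centralizer_iff]
    intro u hu
    obtain ⟨j, rfl⟩ := mem_zpowers_iff.1 (SmallSimple.SylowPrime.mem_zpowers_of_card_prime hp hP hmem hx₀1 hu)
    have h2 : x₀ = (h * g * h⁻¹) ^ k := by rw [conj_pow]
    rw [h2]
    exact ((Commute.refl (h * g * h⁻¹)).pow_left k).zpow_left j
  obtain ⟨x, hx, y, hy, hxy⟩ := hK.exists_mul hP hc
  refine ⟨h, x, hx, ?_, y, hy, hxy.symm⟩
  rintro rfl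
  rw [one_mul] at hxy
  apply ((hK y).1 hy).2
  rw [hxy]
  have h2 : orderOf (h * g * h⁻¹) = orderOf g := by
    have := orderOf_injective (MulAut.conj h).toMonoidHom (MulAut.conj h).injective g
    simpa using this
  rw [h2, hk]
  exact dvd_mul_right _ _

theorem classFunction_conj {χ : G → ℂ} (hχ : IsClassFunction G χ) (g h : G) : χ (h * g * h⁻¹) = χ g := hχ g h

/-- the multiplicities of the constituents of a character are bounded by the degree -/
theorem sum_le_degree [Fintype G] [Fintype (IrrCharacter G)] {Φ : G → ℂ} (hΦ : IsCharacter G Φ) {N : ℕ} (hN : Φ 1 = N)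
    (dg : IrrCharacter G → ℕ) (hdg : ∀ ψ : IrrCharacter G, (ψ : G → ℂ) 1 = dg ψ) (T : Finset (IrrCharacter G))
    (hT : ∀ ψ ∈ T, classInner Φ (ψ : G → ℂ) ≠ 0) : ∑ ψ ∈ T, dg ψ ≤ N := by
  classical
  obtain ⟨n, hn⟩ := exists_nat_comb hΦ
  have h1 : N = ∑ ψ : IrrCharacter G, n ψ * dg ψ := by
    have h2 := congrFun hn 1
    simp only [Finset.sum_apply, Pi.smul_apply] at h2
    rw [hN] at h2
    have h3 : (N : ℂ) = ((∑ ψ : IrrCharacter G, n ψ * dg ψ : ℕ) : ℂ) := by
      rw [h2]
      push_cast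
      exact Finset.sum_congr rfl fun ψ _ => by rw [hdg, nsmul_eq_mul]
    exact_mod_cast h3
  rw [h1]
  refine le_trans ?_ (Finset.sum_le_sum_of_subset (Finset.subset_univ T))
  refine Finset.sum_le_sum fun ψ hψ => ?_
  have h4 : classInner Φ (ψ : G → ℂ) = n ψ := by rw [hn, classInner_sum_nsmul_irr]
  have h5 : n ψ ≠ 0 := by
    intro h6
    apply hT ψ hψ
    rw [h4, h6, Nat.cast_zero]
  exact Nat.le_mul_of_pos_left _ (Nat.pos_of_ne_zero h5)

/-- **The bound.** -/
theorem bound (hK : IsComp p (P : Subgroup G) K) (hP : Nat.card P = p) {ζ : IrrCharacter G} {E t : ℕ}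
    (h : Minus P K ζ E t) {χ : IrrCharacter G} (hχK : ∀ g : G, ∀ y ∈ K, (χ : G → ℂ) (g * y) = (χ : G → ℂ) g) {m : ℕ}
    (hm : (χ : G → ℂ) 1 = m) (hpm : ¬ p ∣ m) : m ≤ (p - E) ^ 2 := by
  classical
  have hp : p.Prime := Fact.out
  have := Fintype.ofFinite G
  have := Fintype.ofFinite K
  have : Finite (IrrCharacter G) := finite_irr
  have := Fintype.ofFinite (IrrCharacter G)
  -- `χ` is over the trivial character
  have hχO : χ ∈ Over P (1 : K → ℂ) := by
    obtain ⟨x, hx, hx1, hne⟩ := exists_apply_ne_zero hP (isIrr_isCharacter χ.2) hm hpm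
    refine ⟨⟨x, hx⟩, fun h => hx1 (congrArg Subtype.val h), ?_⟩
    rw [part_eq, Finset.sum_congr rfl (g := fun _ => (χ : G → ℂ) x)]
    · rw [Finset.sum_const, Finset.card_univ, nsmul_eq_mul, ← Nat.card_eq_fintype_card, ← mul_assoc,
        inv_mul_cancel₀ (by exact_mod_cast Nat.card_pos.ne'), one_mul]
      exact hne
    · intro y _
      rw [hχK _ _ y.2]
      simp
  have hst : ∀ n ∈ normalizer ((P : Subgroup G) : Set G), tw (1 : K → ℂ) n = 1 := fun n hn => tw_one_char hK hn
  have he : Nat.card (stabAct hK (1 : K → ℂ)) = E := by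
    rw [card_stabAct_of_stable hK hP (isIrr_one (G := K)) hst, h.relIndex]
  obtain ⟨NE, X, ε, d, S, g1, g2, g3, g4, g5, g6, g7, g8, g9, g10, g11⟩ :=
    theoremC hK hP (isIrr_one (G := K)) he h.het
  obtain ⟨ζ', hne, hζ'⟩ := h.other
  choose dg hdg0 hdg using fun ψ : IrrCharacter G => isIrr_apply_one ψ.2
  -- the two products
  set A : G → ℂ := (ζ : G → ℂ) * fun g => conj ((ζ : G → ℂ) g) with hA
  set B : G → ℂ := (ζ : G → ℂ) * fun g => conj ((ζ' : G → ℂ) g) with hB
  have hAc : IsCharacter G A := isCharacter_mul (isIrr_isCharacter ζ.2) (isCharacter_conj (isIrr_isCharacter ζ.2))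
  have hBc : IsCharacter G B := isCharacter_mul (isIrr_isCharacter ζ.2) (isCharacter_conj (isIrr_isCharacter ζ'.2))
  have hA1 : A 1 = ((p - E) ^ 2 : ℕ) := by
    show (ζ : G → ℂ) 1 * conj ((ζ : G → ℂ) 1) = _
    rw [h.deg, Complex.conj_natCast]
    push_cast
    ring
  have h1reg : ¬ p ∣ orderOf (1 : G) := by
    rw [orderOf_one]
    exact hp.one_lt.ne' ∘ Nat.dvd_one.1
  have hB1 : B 1 = ((p - E) ^ 2 : ℕ) := by
    show (ζ : G → ℂ) 1 * conj ((ζ' : G → ℂ) 1) = _
    rw [hζ' 1 h1reg, h.deg, Complex.conj_natCast]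
    push_cast
    ring
  have hAB0 : ∀ g : G, ¬ p ∣ orderOf g → A g - B g = 0 := by
    intro g hg
    show (ζ : G → ℂ) g * conj ((ζ : G → ℂ) g) - (ζ : G → ℂ) g * conj ((ζ' : G → ℂ) g) = 0
    rw [hζ' g hg, sub_self]
  have hABt : classInner A (1 : G → ℂ) - classInner B (1 : G → ℂ) = 1 := by
    have h1 : classInner A (1 : G → ℂ) = classInner (ζ : G → ℂ) (ζ : G → ℂ) := by
      rw [classInner_def, classInner_def]
      congr 1
      exact Finset.sum_congr rfl fun g _ => by simp [hA]
    have h2 : classInner B (1 : G → ℂ) = classInner (ζ : G → ℂ) (ζ' : G → ℂ) := by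
      rw [classInner_def, classInner_def]
      congr 1
      exact Finset.sum_congr rfl fun g _ => by simp [hB]
    rw [h1, h2, classInner_irr_self ζ.2, classInner_irr_ne ζ.2 ζ'.2 (fun h => hne (Subtype.ext h).symm), sub_zero]
  -- nonexceptional characters
  have hNE : ∀ ψ ∈ NE, classInner A (ψ : G → ℂ) - classInner B (ψ : G → ℂ) = ε ψ := by
    intro ψ hψ
    have hψO : ψ ∈ Over P (1 : K → ℂ) := (g1 ψ).2 (Or.inl hψ)
    have hval : ∀ g : G, p ∣ orderOf g → (ψ : G → ℂ) g = ε ψ := by
      intro g hg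
      obtain ⟨k, x, hx, hx1, y, hy, hxy⟩ := exists_conj_mul hK hP hg
      rw [← classFunction_conj (isIrr_isClassFunction ψ.2) g k, hxy]
      have h1 := apply_of_stable hK hP (isIrr_one (G := K)) hst hψO (x := ⟨x, hx⟩)
        (fun h => hx1 (congrArg Subtype.val h)) ⟨y, hy⟩
      rw [g7 ψ hψ _ (fun h => hx1 (congrArg Subtype.val h))] at h1
      rw [h1]
      simp
    have h1 : classInner A (ψ : G → ℂ) - classInner B (ψ : G → ℂ) =
        ε ψ * (classInner A (1 : G → ℂ) - classInner B (1 : G → ℂ)) := by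
      rw [classInner_def, classInner_def, classInner_def, classInner_def, ← mul_sub, ← mul_sub,
        ← Finset.sum_sub_distrib, ← Finset.sum_sub_distrib, mul_left_comm]
      congr 1
      rw [Finset.mul_sum]
      apply Finset.sum_congr rfl
      intro g _
      rw [← sub_mul, ← sub_mul]
      by_cases hg : p ∣ orderOf g
      · rw [hval g hg]
        simp
        ring
      · rw [hAB0 g hg]
        simp
    rw [h1, hABt, mul_one]
  have hpos : ∑ ψ ∈ NE.filter (fun ψ => ε ψ = 1), dg ψ ≤ (p - E) ^ 2 := by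
    apply sum_le_degree hAc hA1 dg hdg
    intro ψ hψ h0
    obtain ⟨h1, h2⟩ := Finset.mem_filter.1 hψ
    have h3 := hNE ψ h1
    rw [h0, h2] at h3
    obtain ⟨b, hb⟩ := classInner_isNat hBc (isIrr_isCharacter ψ.2)
    rw [hb] at h3
    have h4 : (0 : ℤ) - b = 1 := by exact_mod_cast h3
    omega
  have hneg : ∑ ψ ∈ NE.filter (fun ψ => ε ψ = -1), dg ψ ≤ (p - E) ^ 2 := by
    apply sum_le_degree hBc hB1 dg hdg
    intro ψ hψ h0
    obtain ⟨h1, h2⟩ := Finset.mem_filter.1 hψ
    have h3 := hNE ψ h1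
    rw [h0, h2] at h3
    obtain ⟨b, hb⟩ := classInner_isNat hAc (isIrr_isCharacter ψ.2)
    rw [hb] at h3
    have h4 : (b : ℤ) - 0 = -1 := by exact_mod_cast h3
    omega
  have hmdg : m = dg χ := by
    have := hm.symm.trans (hdg χ)
    exact_mod_cast this
  rw [hmdg]
  rcases (g1 χ).1 hχO with hχ | hχ
  · rcases g5 χ hχ with h1 | h1
    · exact le_trans (Finset.single_le_sum (f := dg) (fun _ _ => Nat.zero_le _)
        (Finset.mem_filter.2 ⟨hχ, h1⟩)) hpos
    · exact le_trans (Finset.single_le_sum (f := dg) (fun _ _ => Nat.zero_le _)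
        (Finset.mem_filter.2 ⟨hχ, h1⟩)) hneg
  · -- exceptional
    have h1 := g11 χ hχ 1 h1reg
    rw [hdg] at h1
    have h2 : (∑ ψ ∈ NE, ε ψ * (dg ψ : ℤ)) = d * dg χ := by
      have h3 : ((∑ ψ ∈ NE, ε ψ * (dg ψ : ℤ) : ℤ) : ℂ) = ((d * dg χ : ℤ) : ℂ) := by
        push_cast
        rw [← h1]
        exact Finset.sum_congr rfl fun ψ _ => by rw [hdg]
      exact_mod_cast h3
    have h3 : (∑ ψ ∈ NE, ε ψ * (dg ψ : ℤ)) =
        ∑ ψ ∈ NE.filter (fun ψ => ε ψ = 1), (dg ψ : ℤ) - ∑ ψ ∈ NE.filter (fun ψ => ε ψ = -1), (dg ψ : ℤ) := by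
      rw [Finset.sum_filter, Finset.sum_filter, ← Finset.sum_sub_distrib]
      refine Finset.sum_congr rfl fun ψ hψ => ?_
      rcases g5 ψ hψ with h4 | h4
      · rw [h4]; simp
      · rw [h4]; simp
    rw [h3] at h2
    have h4 : (∑ ψ ∈ NE.filter (fun ψ => ε ψ = 1), (dg ψ : ℤ)) ≤ ((p - E : ℕ) : ℤ) ^ 2 := by exact_mod_cast hpos
    have h5 : (∑ ψ ∈ NE.filter (fun ψ => ε ψ = -1), (dg ψ : ℤ)) ≤ ((p - E : ℕ) : ℤ) ^ 2 := by exact_mod_cast hneg
    have h6 : 0 ≤ (∑ ψ ∈ NE.filter (fun ψ => ε ψ = 1), (dg ψ : ℤ)) := Finset.sum_nonneg fun _ _ => by (clear * -; positivity)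
    have h7 : 0 ≤ (∑ ψ ∈ NE.filter (fun ψ => ε ψ = -1), (dg ψ : ℤ)) := Finset.sum_nonneg fun _ _ => by (clear * -; positivity)
    have h8 : ((dg χ : ℕ) : ℤ) ≤ ((p - E : ℕ) : ℤ) ^ 2 := by
      rcases g6 with hd | hd
      · rw [hd] at h2; linarith only [hpos, h2, h7]
      · rw [hd] at h2; linarith only [hneg, h2, h6]
    exact_mod_cast h8

end Cfsg.Agent.H655.Bound
end

-- part: H655/Numbers
section
/-!
# Numerical conditions on `G / Z(G)` in the minus case (helper655)
-/

set_option autoImplicit false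
set_option linter.unusedSectionVars false
open Cfsg
open scoped ComplexConjugate commutatorElement

namespace Cfsg.Agent.H655.Numbers

open Subgroup
open Cfsg.Agent.Characters.Core Cfsg.Agent.Characters.Linear
open Cfsg.Agent.SmallSimple.PrimeDual Cfsg.Agent.SmallSimple.ThetaSetup
open Cfsg.Agent.SmallSimple.ThetaOrtho Cfsg.Agent.SmallSimple.ThetaGroup
open Cfsg.Agent.SmallSimple.ThetaCount Cfsg.Agent.SmallSimple.TheoremC
open Cfsg.Agent.SmallSimple.TheoremCCor
open Cfsg.Agent.H655.Basic Cfsg.Agent.H655.Closure Cfsg.Agent.H655.Dichotomy Cfsg.Agent.H655.MinusCase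

universe u

/-- The conditions. -/
structure Num (S : Type u) [Group S] (p E t : ℕ) : Prop where
  prime : p.Prime
  het : E * t = p - 1
  two_le : 2 ≤ t
  two_le_E : 2 ≤ E
  card : ∃ k : ℕ, Nat.card S = p * E * (1 + k * p)
  dvd : p - E ∣ Nat.card S
  st : ∀ r : ℕ, r.Prime → r ≠ p → H167.StChar.HasSt r S → r ^ (Nat.card S).factorization r ≤ (p - E) ^ 2
  cent : ∀ x c : S, orderOf x = p → x * c = c * x → c ∈ zpowers x
  other : ∀ q : ℕ, q.Prime → q ∣ Nat.card S → ¬ q ^ 2 ∣ Nat.card S → p - E + 1 < q →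
    ∃ E' t' : ℕ, E' * t' = q - 1 ∧ 2 ≤ t' ∧ 2 ≤ E' ∧
      ((p - E = q - E' ∧ ∃ k : ℕ, Nat.card S = q * E' * (1 + k * q)) ∨ E' ∣ p - E)

variable {G : Type u} [Group G] [Finite G] {p : ℕ} [Fact p.Prime]

theorem relIndex_ne_one (hperf : commutator G = ⊤) (P : Sylow p G) (hP : Nat.card P = p) :
    (centralizer ((P : Subgroup G) : Set G)).relIndex (normalizer ((P : Subgroup G) : Set G)) ≠ 1 := by
  intro h
  rw [relIndex_eq_one] at h
  have hcyc : IsCyclic (P : Subgroup G) := isCyclic_of_prime_card hP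
  have hcomm : IsMulCommutative (P : Subgroup G) := inferInstance
  have h1 := MonoidHom.not_dvd_card_ker_transferSylow P h
  have h2 : (MonoidHom.transferSylow P h).ker = ⊤ := by
    rw [eq_top_iff, ← hperf, commutator_def, Subgroup.commutator_le]
    intro a _ b _
    rw [MonoidHom.mem_ker, commutatorElement_def, map_mul, map_mul, map_mul]
    have h3 : ∀ u v : (P : Subgroup G), u * v = v * u := hcomm.is_comm.comm
    rw [h3 (MonoidHom.transferSylow P h a), map_inv, map_inv]
    group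
  rw [h2, Subgroup.card_top] at h1
  apply h1
  have h3 := Subgroup.card_subgroup_dvd_card (P : Subgroup G)
  have h4 : Nat.card (P : Subgroup G) = p := hP
  rwa [h4] at h3

theorem card_eq {P : Sylow p G} {K : Subgroup G} (hK : IsComp p (P : Subgroup G) K) (hP : Nat.card P = p) {E : ℕ}
    (hE : (centralizer ((P : Subgroup G) : Set G)).relIndex (normalizer ((P : Subgroup G) : Set G)) = E) :
    Nat.card G = E * (p * Nat.card K) * Nat.card (Sylow p G) := by
  have h1 : Nat.card (Sylow p G) * Nat.card (normalizer (P : Set G)) = Nat.card G := by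
    rw [P.card_eq_index_normalizer, mul_comm]
    exact (normalizer (P : Set G)).card_mul_index
  have h2 := card_centralizer hK hP
  have h3 : Nat.card (normalizer ((P : Subgroup G) : Set G)) =
      E * Nat.card (centralizer ((P : Subgroup G) : Set G)) := by
    have h4 := Subgroup.index_mul_card ((centralizer ((P : Subgroup G) : Set G)).subgroupOf
      (normalizer ((P : Subgroup G) : Set G)))
    rw [Nat.card_congr (Subgroup.subgroupOfEquivOfLe (Subgroup.centralizer_le_normalizer _)).toEquiv] at h4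
    rw [← h4]
    congr 1
  rw [← h1]
  have h5 : Nat.card (normalizer ((P : Subgroup G) : Set G)) = Nat.card (normalizer (P : Set G)) := rfl
  rw [← h5, h3, h2]
  ring

/-- A prime dividing the order of the centre of a perfect group divides the degrees of the faithful irreducible
characters. -/
theorem dvd_degree (hperf : commutator G = ⊤) {n : ℕ} (ρ : Representation ℂ G (Fin n → ℂ)) (hρirr : ρ.IsIrreducible)
    (hρ : Function.Injective ρ) {q : ℕ} (hq : q.Prime) (hdvd : q ∣ Nat.card (center G)) : q ∣ n := by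
  have := Fact.mk hq
  have := hρirr
  obtain ⟨z, hz⟩ := exists_prime_orderOf_dvd_card' q hdvd
  obtain ⟨w, hw⟩ := Characters.CentralCharacter.exists_scalar_of_commute ρ (ρ (z : G)) (fun g v => by
    have h2 := mem_center_iff.1 z.2 g
    rw [← Module.End.mul_apply, ← Module.End.mul_apply, ← map_mul, ← map_mul, h2])
  -- the determinant
  let D : G →* ℂˣ := (LinearMap.det.comp ρ : G →* ℂ).toHomUnits
  have hD : ∀ g, D g = 1 := by
    intro g
    have h1 : commutator G ≤ D.ker := by
      rw [commutator_def, Subgroup.commutator_le]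
      intro a _ b _
      rw [MonoidHom.mem_ker, commutatorElement_def, map_mul, map_mul, map_mul, mul_comm (D a), map_inv, map_inv]
      group
    rw [hperf] at h1
    exact h1 (mem_top g)
  have h1 : w ^ n = 1 := by
    have h2 : LinearMap.det (ρ (z : G)) = 1 := congrArg (fun u : ℂˣ => (u : ℂ)) (hD z)
    rw [hw, LinearMap.det_smul, LinearMap.det_id, mul_one, Module.finrank_fin_fun] at h2
    exact h2
  have h2 : w ^ q = 1 := by
    have h3 : ρ (z : G) ^ q = 1 := by
      rw [← map_pow, ← SubgroupClass.coe_pow, ← hz, pow_orderOf_eq_one, OneMemClass.coe_one, map_one]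
    rw [hw] at h3
    have h4 : (w • (LinearMap.id : (Fin n → ℂ) →ₗ[ℂ] (Fin n → ℂ))) ^ q = w ^ q • 1 := by
      change (w • (1 : Module.End ℂ (Fin n → ℂ))) ^ q = _
      rw [smul_pow, one_pow]
    have hn0 : 0 < n := by
      have := Characters.CentralCharacter.finrank_pos_of_irreducible ρ
      rwa [Module.finrank_fin_fun] at this
    have h5 : w ^ q • (1 : Module.End ℂ (Fin n → ℂ)) = 1 := by rw [← h4]; exact h3
    have h6 := congrFun (LinearMap.congr_fun h5 (Pi.single (⟨0, hn0⟩ : Fin n) (1 : ℂ))) ⟨0, hn0⟩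
    simpa only [_root_.LinearMap.smul_apply, _root_.Module.End.one_apply, _root_.Pi.smul_apply, _root_.Pi.single_eq_same, _root_.smul_eq_mul, _root_.mul_one] using h6
  have hw1 : w ≠ 1 := by
    intro h
    rw [h, one_smul] at hw
    have h3 : (z : G) = 1 := hρ (by rw [hw, map_one]; rfl)
    have h4 : z = 1 := Subtype.ext h3
    rw [h4, orderOf_one] at hz
    exact hq.one_lt.ne hz
  by_contra hnd
  have hcop : Nat.Coprime q n := (hq.coprime_iff_not_dvd).2 hnd
  have h3 : orderOf w ∣ q := orderOf_dvd_of_pow_eq_one h2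
  have h4 : orderOf w ∣ n := orderOf_dvd_of_pow_eq_one h1
  have h5 : orderOf w = 1 := Nat.dvd_one.1 (by rw [← hcop.gcd_eq_one]; exact Nat.dvd_gcd h3 h4)
  exact hw1 (orderOf_eq_one_iff.1 h5)

theorem cent_quotient {P : Sylow p G} (hP : Nat.card P = p) (hK : IsComp p (P : Subgroup G) (center G))
    (x c : G ⧸ center G) (hx : orderOf x = p) (hxc : x * c = c * x) : c ∈ zpowers x := by
  have hp : p.Prime := Fact.out
  have hZp : ¬ p ∣ Nat.card (center G) := hK.not_dvd_card
  obtain ⟨g, rfl⟩ := QuotientGroup.mk_surjective x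
  obtain ⟨c, rfl⟩ := QuotientGroup.mk_surjective c
  -- `p ∣ orderOf g`
  have hg : p ∣ orderOf g := by
    rw [← hx]
    exact orderOf_map_dvd (QuotientGroup.mk' (center G)) g
  obtain ⟨h, u, hu, hu1, y, hy, hhg⟩ := Bound.exists_conj_mul hK hP hg
  have hyc : ∀ a : G, a * y = y * a := mem_center_iff.1 hy
  have hPu : zpowers u = (P : Subgroup G) := by
    apply Subgroup.eq_of_le_of_card_ge (zpowers_le.2 hu)
    have h1 : Nat.card (P : Subgroup G) = p := hP
    rw [h1, Nat.card_zpowers, Blocks.CyclicOrtho.orderOf_eq P hP hu hu1]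
  -- `c' = h c h⁻¹` commutes with `u` modulo the centre
  set c' := h * c * h⁻¹ with hc'
  have h1 : u * c' * u⁻¹ * c'⁻¹ ∈ center G := by
    have h2 : (g * c) * (c * g)⁻¹ ∈ center G := by
      rw [← QuotientGroup.eq_one_iff, QuotientGroup.mk_mul, QuotientGroup.mk_inv, QuotientGroup.mk_mul,
        QuotientGroup.mk_mul, hxc, mul_inv_cancel]
    have h3 := (inferInstance : (center G).Normal).conj_mem _ h2 h
    have h4 : h * (g * c * (c * g)⁻¹) * h⁻¹ = (h * g * h⁻¹) * c' * (h * g * h⁻¹)⁻¹ * c'⁻¹ := by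
      rw [hc']; group
    rw [h4, hhg] at h3
    have h5 : u * y * c' * (u * y)⁻¹ * c'⁻¹ = u * c' * u⁻¹ * c'⁻¹ := by
      rw [mul_inv_rev, mul_assoc u y c', ← hyc c']
      calc u * (c' * y) * (y⁻¹ * u⁻¹) * c'⁻¹ = u * c' * (y * y⁻¹) * u⁻¹ * c'⁻¹ := by group
        _ = _ := by rw [mul_inv_cancel, mul_one]
    rwa [h5] at h3
  set z := u * c' * u⁻¹ * c'⁻¹ with hz
  have hzc := mem_center_iff.1 h1
  have h2 : c' * u * c'⁻¹ = z⁻¹ * u := by
    have h3 : z⁻¹ = c' * u * c'⁻¹ * u⁻¹ := by rw [hz]; group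
    rw [h3]; group
  have h3 : z⁻¹ ^ p = 1 := by
    have h4 : (z⁻¹ * u) ^ p = 1 := by rw [← h2, conj_pow, pow_eq_one hP hu]; simp
    have h5 : Commute z⁻¹ u := by
      have h6 := mem_center_iff.1 (inv_mem h1) u
      exact h6.symm
    rwa [h5.mul_pow, pow_eq_one hP hu, mul_one] at h4
  have h4 : z⁻¹ = 1 := eq_one_of_pow hZp (inv_mem h1) h3
  rw [h4, one_mul, mul_inv_eq_iff_eq_mul] at h2
  have h5 : c' ∈ centralizer ((P : Subgroup G) : Set G) := by
    rw [mem_centralizer_iff, ← hPu]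
    rintro _ ⟨j, rfl⟩
    have h6 : Commute u c' := h2.symm
    exact (h6.zpow_left j).eq
  obtain ⟨a, ha, b, hb, hab⟩ := hK.exists_mul hP h5
  have ha : a ∈ (P : Subgroup G) := ha
  rw [← hPu] at ha
  obtain ⟨j, rfl⟩ := ha
  refine ⟨j, ?_⟩
  -- `c` is conjugate to `u ^ j b`
  show (QuotientGroup.mk g : G ⧸ center G) ^ j = QuotientGroup.mk c
  rw [← QuotientGroup.mk_zpow, QuotientGroup.eq]
  have h6 : h⁻¹ * c' * h = c := by rw [hc']; group
  have h7 : h⁻¹ * (u * y) * h = g := by rw [← hhg]; group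
  have hyu : Commute u y := hyc u
  rw [← h6, ← hab, ← h7]
  have h8 : (h⁻¹ * (u * y) * h) ^ j = h⁻¹ * (u ^ j * y ^ j) * h := by
    have := conj_zpow (i := j) (b := u * y) (a := h⁻¹)
    rw [inv_inv] at this
    rw [this, hyu.mul_zpow]
  rw [h8]
  have h9 : (h⁻¹ * (u ^ j * y ^ j) * h)⁻¹ * (h⁻¹ * (u ^ j * b) * h) = h⁻¹ * (y ^ j)⁻¹ * b * h := by group
  show (h⁻¹ * (u ^ j * y ^ j) * h)⁻¹ * (h⁻¹ * ((fun x => u ^ x) j * b) * h) ∈ center G
  simp only
  rw [h9]
  have h10 : (y ^ j)⁻¹ * b ∈ center G := mul_mem (inv_mem (zpow_mem hy j)) hb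
  have h11 := (inferInstance : (center G).Normal).conj_mem _ h10 h⁻¹
  rw [inv_inv] at h11
  have h12 : h⁻¹ * (y ^ j)⁻¹ * b * h = h⁻¹ * ((y ^ j)⁻¹ * b) * h := by group
  rw [h12]
  exact h11

/-- **The numerical conditions.** -/
theorem num (hperf : commutator G = ⊤) {P : Sylow p G} {K : Subgroup G} (hK : IsComp p (P : Subgroup G) K)
    (hP : Nat.card P = p) (hnn : ¬ (P : Subgroup G).Normal) {ζ : IrrCharacter G} {E t : ℕ} (h : Minus P K ζ E t)
    (hfaith : ∀ g : G, (ζ : G → ℂ) g = (ζ : G → ℂ) 1 → g = 1) : Num (G ⧸ center G) p E t := by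
  classical
  have hp : p.Prime := Fact.out
  have hp2 := hp.two_le
  have hKZ : K = center G := le_antisymm (K_le_center h hfaith) (center_le_K hK hP hnn)
  subst hKZ
  obtain ⟨n, ρ, hρirr, hρ, hρζ, hn⟩ := exists_rep ζ.2 hfaith
  have hnE : n = p - E := by
    have h1 := hn.symm.trans h.deg
    exact_mod_cast h1
  have hcardG := card_eq hK hP h.relIndex
  have hcardS : Nat.card (G ⧸ center G) * Nat.card (center G) = Nat.card G :=
    (Subgroup.card_eq_card_quotient_mul_card_subgroup (center G)).symm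
  have hZ0 : 0 < Nat.card (center G) := Nat.card_pos
  have hEt := h.het
  have ht2 := h.two_le
  have hE2 := h.two_le_E
  have hEp : E * 2 ≤ p - 1 := by rw [← hEt]; exact Nat.mul_le_mul_left _ ht2
  have hS : Nat.card (G ⧸ center G) = p * E * Nat.card (Sylow p G) := by
    apply Nat.eq_of_mul_eq_mul_right hZ0
    rw [hcardS, hcardG]
    ring
  refine ⟨hp, h.het, h.two_le, h.two_le_E, ?_, ?_, ?_, ?_, ?_⟩
  · -- Sylow
    have h1 := card_sylow_modEq_one p G
    have h2 : 0 < Nat.card (Sylow p G) := Nat.card_pos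
    have h3 : Nat.card (Sylow p G) % p = 1 := by
      have : Nat.card (Sylow p G) % p = 1 % p := h1
      rwa [Nat.mod_eq_of_lt hp.one_lt] at this
    refine ⟨Nat.card (Sylow p G) / p, ?_⟩
    rw [hS]
    congr 1
    have h4 := Nat.div_add_mod (Nat.card (Sylow p G)) p
    rw [h3] at h4
    rw [mul_comm (Nat.card (Sylow p G) / p) p, add_comm]
    exact h4.symm
  · have := hρirr
    have h1 := Characters.DegreeBounds.finrank_dvd_index_center ρ
    rw [Module.finrank_fin_fun, hnE] at h1
    exact h1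
  · intro r hr hrp hSt
    have := Fact.mk hr
    obtain ⟨χ, hχ, hχ1, -⟩ := hSt
    let χ' : IrrCharacter G := ⟨χ ∘ QuotientGroup.mk' (center G),
      isIrr_comp (QuotientGroup.mk' (center G)) (QuotientGroup.mk'_surjective _) hχ⟩
    refine Bound.bound hK hP h (χ := χ') ?_ (m := r ^ (Nat.card (G ⧸ center G)).factorization r) ?_ ?_
    · intro g y hy
      show χ (QuotientGroup.mk' (center G) (g * y)) = χ (QuotientGroup.mk' (center G) g)
      have h1 : QuotientGroup.mk' (center G) y = 1 := (QuotientGroup.eq_one_iff y).2 hy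
      rw [map_mul, h1, mul_one]
    · show χ (QuotientGroup.mk' (center G) 1) = _
      rw [map_one, hχ1]
    · intro h1
      exact hrp ((Nat.prime_dvd_prime_iff_eq hp hr).1 (hp.dvd_of_dvd_pow h1)).symm
  · exact fun x c hx hxc => cent_quotient hP hK x c hx hxc
  · intro q hq hqS hqS2 hlt
    have := Fact.mk hq
    have hqn : ¬ q ∣ n := by
      intro h1
      have h2 := Nat.le_of_dvd (by omega) h1
      omega
    have hqZ : ¬ q ∣ Nat.card (center G) := fun h1 => hqn (dvd_degree hperf ρ hρirr hρ hq h1)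
    obtain ⟨Q⟩ : Nonempty (Sylow q G) := inferInstance
    have hQ : Nat.card Q = q := by
      rw [Q.card_eq_multiplicity, ← hcardS, Nat.factorization_mul Nat.card_pos.ne' hZ0.ne', Finsupp.add_apply,
        Nat.factorization_eq_zero_of_not_dvd hqZ, add_zero]
      have h1 : (Nat.card (G ⧸ center G)).factorization q = 1 := by
        have h2 : (Nat.card (G ⧸ center G)).factorization q ≠ 0 := by
          rw [Ne, Nat.factorization_eq_zero_iff]
          push Not
          exact ⟨hq, hqS, Nat.card_pos.ne'⟩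
        have h3 : (Nat.card (G ⧸ center G)).factorization q < 2 := by
          by_contra h4
          exact hqS2 ((hq.pow_dvd_iff_le_factorization Nat.card_pos.ne').2 (not_lt.1 h4))
        omega
      rw [h1, pow_one]
    obtain ⟨L, hL⟩ := exists_isComp Q hQ
    have hnnQ : ¬ (Q : Subgroup G).Normal := by
      intro hQn
      -- a normal subgroup of prime order of a perfect group is central
      have h1 : IsCyclic (Q : Subgroup G) := isCyclic_of_prime_card hQ
      have h2 := PrimeNormal.le_center_of_isCyclic hperf _ hQn h1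
      apply hqZ
      have h3 := Subgroup.card_dvd_of_le h2
      have h4 : Nat.card (Q : Subgroup G) = q := hQ
      rwa [h4] at h3
    rcases dichotomy (P := Q) hL hQ (ζ := ζ) (n := n) hn (by omega) with h1 | ⟨E', t', h1 | h1⟩
    · exfalso
      obtain ⟨x, hx, hx1⟩ := Closure.exists_ne_one hQ
      exact hx1 (hfaith x (h1 x hx))
    · refine ⟨E', t', h1.het, h1.two_le, h1.two_le_E, Or.inl ⟨?_, ?_⟩⟩
      · have h2 := hn.symm.trans h1.deg
        have h3 : n = q - E' := by exact_mod_cast h2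
        omega
      · have hLZ : L = center G := le_antisymm (K_le_center h1 hfaith) (center_le_K hL hQ hnnQ)
        subst hLZ
        have h2 := card_eq hL hQ h1.relIndex
        have h3 : Nat.card (G ⧸ center G) = q * E' * Nat.card (Sylow q G) := by
          apply Nat.eq_of_mul_eq_mul_right hZ0
          rw [hcardS, h2]
          ring
        have h4 : Nat.card (Sylow q G) % q = 1 := by
          have : Nat.card (Sylow q G) % q = 1 % q := card_sylow_modEq_one q G
          rwa [Nat.mod_eq_of_lt hq.one_lt] at this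
        refine ⟨Nat.card (Sylow q G) / q, ?_⟩
        rw [h3]
        congr 1
        have h5 := Nat.div_add_mod (Nat.card (Sylow q G)) q
        rw [h4] at h5
        rw [mul_comm (Nat.card (Sylow q G) / q) q, add_comm]
        exact h5.symm
    · refine ⟨E', t', h1.het, h1.two_le, ?_, Or.inr ?_⟩
      · have h2 := relIndex_ne_one hperf Q hQ
        rw [h1.relIndex] at h2
        have h3 : E' ≠ 0 := by
          rintro rfl
          have := h1.het
          have := hq.two_le
          omega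
        omega
      · obtain ⟨θ, hθ, -⟩ := h1.theta
        obtain ⟨f, -, hf⟩ := isIrr_apply_one θ.2
        rw [hn, hf] at hθ
        have h2 : n = E' * f := by exact_mod_cast hθ
        rw [← hnE, h2]
        exact dvd_mul_right _ _

end Cfsg.Agent.H655.Numbers
end

private theorem dce_4e035c191b1e : _root_.True := by
  try have : _root_.True := by simp only [_root_.MonoidHom.transferSylow.congr_simp]
  exact _root_.True.intro
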