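import Cfsg.Agent.H912.CrossList_m3
import Cfsg.Agent.Ly.Index
import Cfsg.Agent.Ly.Final
import Cfsg.Agent.H264.CoverOver
import Cfsg.Agent.S2050
import Cfsg.Agent.Prune
set_option linter.all false
prune_inst 0x7f00000000000000000000000000000000000000000000000000000000000000000000000000000000000000000000000000000000000000000000000000000000000000000000000000000000000000003fffffffffffffffffffffffffffbeffbdfbfeffff
open scoped Cfsg.Agent.FastGrp

-- part: H655/HeisBound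
section
/-!
# A Heisenberg group of order `5 ^ 5` with an automorphism of order four (helper655)

`hundred_le` : in a complex representation which is nontrivial on the centre the degree is at least `100`.
-/

set_option autoImplicit false
set_option linter.unusedSectionVars false

namespace Cfsg.Agent.H655.HeisBound

open Module

variable {G V : Type*} [Group G] [AddCommGroup V] [Module ℂ V] [FiniteDimensional ℂ V] (ρ : Representation ℂ G V)

theorem exists_eig (W : Submodule ℂ V) (hW : W ≠ ⊥) (f : Module.End ℂ V) (hf : ∀ w ∈ W, f w ∈ W) :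
    ∃ (μ : ℂ) (w : V), w ∈ W ∧ w ≠ 0 ∧ f w = μ • w := by
  have : Nontrivial W := Submodule.nontrivial_iff_ne_bot.2 hW
  obtain ⟨μ, hμ⟩ := Module.End.exists_eigenvalue (f.restrict hf)
  obtain ⟨w, hw⟩ := hμ.exists_hasEigenvector
  refine ⟨μ, w, w.2, fun h => hw.2 (Subtype.ext h), ?_⟩
  exact congrArg Subtype.val hw.apply_eq_smul

/-- the subspace of the eigenvectors in `W` -/
def eigSub (W : Submodule ℂ V) (f : Module.End ℂ V) (μ : ℂ) : Submodule ℂ V := W ⊓ LinearMap.ker (f - μ • 1)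

theorem mem_eigSub {W : Submodule ℂ V} {f : Module.End ℂ V} {μ : ℂ} {w : V} :
    w ∈ eigSub W f μ ↔ w ∈ W ∧ f w = μ • w := by
  rw [eigSub, Submodule.mem_inf, LinearMap.mem_ker, LinearMap.sub_apply, sub_eq_zero]
  rfl

theorem eigSub_inv {W : Submodule ℂ V} {f g : Module.End ℂ V} {μ : ℂ} (hg : ∀ w ∈ W, g w ∈ W)
    (hfg : ∀ v, f (g v) = g (f v)) {w : V} (hw : w ∈ eigSub W f μ) : g w ∈ eigSub W f μ := by
  rw [mem_eigSub] at hw ⊢
  exact ⟨hg _ hw.1, by rw [hfg, hw.2, map_smul]⟩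

theorem eigSub_ne {W : Submodule ℂ V} {f : Module.End ℂ V} {μ : ℂ} {w : V} (hw : w ∈ W) (hw0 : w ≠ 0)
    (h : f w = μ • w) : eigSub W f μ ≠ ⊥ := fun h1 => hw0 (by
  have : w ∈ eigSub W f μ := mem_eigSub.2 ⟨hw, h⟩
  rwa [h1, Submodule.mem_bot] at this)

/-- simultaneous eigenvectors -/
def Eig (z x₁ x₂ : G) (α β γ : ℂ) (u : V) : Prop := ρ z u = α • u ∧ ρ x₁ u = β • u ∧ ρ x₂ u = γ • u

theorem comm_apply {a b : G} (h : a * b = b * a) (v : V) : ρ a (ρ b v) = ρ b (ρ a v) := by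
  rw [← Module.End.mul_apply, ← map_mul, h, map_mul, Module.End.mul_apply]

theorem exists_Eig {z x₁ x₂ : G} (hz5 : z ^ 5 = 1) (hz1 : z * x₁ = x₁ * z) (hz2 : z * x₂ = x₂ * z)
    (hxx : x₁ * x₂ = x₂ * x₁) (hne : ρ z ≠ 1) :
    ∃ (α β γ : ℂ) (u : V), u ≠ 0 ∧ α ≠ 1 ∧ α ^ 5 = 1 ∧ β ≠ 0 ∧ γ ≠ 0 ∧ Eig ρ z x₁ x₂ α β γ u := by
  set W : Submodule ℂ V := LinearMap.range (ρ z - 1) with hWdef
  have hW : W ≠ ⊥ := by
    intro h
    rw [hWdef, LinearMap.range_eq_bot, sub_eq_zero] at h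
    exact hne h
  have hinv : ∀ a : G, z * a = a * z → ∀ w ∈ W, ρ a w ∈ W := by
    rintro a ha _ ⟨v, rfl⟩
    refine ⟨ρ a v, ?_⟩
    rw [LinearMap.sub_apply, LinearMap.sub_apply, map_sub, comm_apply ρ ha]
    rfl
  obtain ⟨α, w, hw, hw0, hwα⟩ := exists_eig W hW (ρ z) (hinv z rfl)
  have hz5' : ρ z ^ 5 = 1 := by rw [← map_pow, hz5, map_one]
  have hpow : ∀ k : ℕ, (ρ z ^ k) w = α ^ k • w := by
    intro k
    induction k with
    | zero => simp
    | succ k ih => rw [pow_succ, Module.End.mul_apply, hwα, map_smul, ih, smul_smul, pow_succ, mul_comm]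
  have hα5 : α ^ 5 = 1 := by
    have h1 := hpow 5
    rw [hz5', Module.End.one_apply] at h1
    by_contra h2
    have h3 : (α ^ 5 - 1) • w = 0 := by rw [sub_smul, one_smul, ← h1, sub_self]
    exact hw0 ((smul_eq_zero.1 h3).resolve_left (sub_ne_zero.2 h2))
  have hα1 : α ≠ 1 := by
    rintro rfl
    obtain ⟨v, hv⟩ := hw
    have h1 : (1 + ρ z + ρ z ^ 2 + ρ z ^ 3 + ρ z ^ 4 : Module.End ℂ V) ((ρ z - 1 : Module.End ℂ V) v) = 0 := by
      rw [← Module.End.mul_apply]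
      have h2 : (1 + ρ z + ρ z ^ 2 + ρ z ^ 3 + ρ z ^ 4 : Module.End ℂ V) * (ρ z - 1) = ρ z ^ 5 - 1 := by noncomm_ring
      rw [h2, hz5', sub_self]
      rfl
    rw [hv] at h1
    have h2 : (1 + ρ z + ρ z ^ 2 + ρ z ^ 3 + ρ z ^ 4 : Module.End ℂ V) w = (5 : ℂ) • w := by
      simp only [LinearMap.add_apply, hpow, one_pow, one_smul, hwα, Module.End.one_apply]
      rw [show (5 : ℂ) = 1 + 1 + 1 + 1 + 1 by norm_num]
      simp only [add_smul, one_smul]
    rw [h2] at h1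
    exact hw0 ((smul_eq_zero.1 h1).resolve_left (by norm_num))
  have hW1 := eigSub_ne hw hw0 hwα
  obtain ⟨β, w1, hw1, hw10, hwβ⟩ := exists_eig (eigSub W (ρ z) α) hW1 (ρ x₁)
    (fun w hw => eigSub_inv (hinv x₁ hz1) (comm_apply ρ hz1) hw)
  have hW2 := eigSub_ne hw1 hw10 hwβ
  obtain ⟨γ, w2, hw2, hw20, hwγ⟩ := exists_eig (eigSub (eigSub W (ρ z) α) (ρ x₁) β) hW2 (ρ x₂)
    (fun w hw => eigSub_inv (fun w hw => eigSub_inv (hinv x₂ hz2) (comm_apply ρ hz2) hw) (comm_apply ρ hxx) hw)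
  rw [mem_eigSub, mem_eigSub] at hw2
  have hne0 : ∀ (a : G) (μ : ℂ), ρ a w2 = μ • w2 → μ ≠ 0 := by
    rintro a μ h rfl
    rw [zero_smul] at h
    apply hw20
    have h1 : ρ a⁻¹ (ρ a w2) = w2 := by
      rw [← Module.End.mul_apply, ← map_mul, inv_mul_cancel, map_one, Module.End.one_apply]
    rw [← h1, h, map_zero]
  exact ⟨α, β, γ, w2, hw20, hα1, hα5, hne0 _ _ hw2.2, hne0 _ _ hwγ, hw2.1.2, hw2.2, hwγ⟩

theorem pow_apply {x : G} {β : ℂ} {u : V} (h : ρ x u = β • u) (k : ℕ) : ρ (x ^ k) u = β ^ k • u := by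
  induction k with
  | zero => simp
  | succ k ih => rw [pow_succ, map_mul, Module.End.mul_apply, h, map_smul, ih, smul_smul, pow_succ, mul_comm]

/-- `a b = b c`, and `c u = μ u` imply `a (b u) = μ (b u)`. -/
theorem shift {a b c : G} (h : a * b = b * c) {u : V} {μ : ℂ} (hc : ρ c u = μ • u) : ρ a (ρ b u) = μ • ρ b u := by
  rw [← Module.End.mul_apply, ← map_mul, h, map_mul, Module.End.mul_apply, hc, map_smul]

theorem mul_apply' {a b : G} {u : V} {μ ν : ℂ} (ha : ρ a u = μ • u) (hb : ρ b u = ν • u) :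
    ρ (a * b) u = (μ * ν) • u := by
  rw [map_mul, Module.End.mul_apply, hb, map_smul, ha, smul_smul, mul_comm]

variable {ρ}

theorem Eig.y₁ {z x₁ x₂ y₁ : G} (h11 : x₁ * y₁ = y₁ * (x₁ * z)) (h21 : x₂ * y₁ = y₁ * x₂) (hz : z * y₁ = y₁ * z)
    {α β γ : ℂ} {u : V} (h : Eig ρ z x₁ x₂ α β γ u) (i : ℕ) :
    Eig ρ z x₁ x₂ α (β * α ^ i) γ (ρ (y₁ ^ i) u) := by
  induction i with
  | zero => simpa using h
  | succ i ih =>
    rw [pow_succ' y₁, map_mul, Module.End.mul_apply]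
    refine ⟨shift ρ hz ih.1, ?_, shift ρ h21 ih.2.2⟩
    rw [pow_succ, ← mul_assoc]
    exact shift ρ h11 (mul_apply' ρ ih.2.1 ih.1)

theorem Eig.y₂ {z x₁ x₂ y₂ : G} (h22 : x₂ * y₂ = y₂ * (x₂ * z)) (h12 : x₁ * y₂ = y₂ * x₁) (hz : z * y₂ = y₂ * z)
    {α β γ : ℂ} {u : V} (h : Eig ρ z x₁ x₂ α β γ u) (i : ℕ) :
    Eig ρ z x₁ x₂ α β (γ * α ^ i) (ρ (y₂ ^ i) u) := by
  induction i with
  | zero => simpa using h
  | succ i ih =>
    rw [pow_succ' y₂, map_mul, Module.End.mul_apply]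
    refine ⟨shift ρ hz ih.1, shift ρ h12 ih.2.1, ?_⟩
    rw [pow_succ, ← mul_assoc]
    exact shift ρ h22 (mul_apply' ρ ih.2.2 ih.1)

theorem Eig.g {z x₁ x₂ g : G} (hzg : z * g = g * z ^ 2) (h1g : x₁ * g = g * x₁ ^ 4) (h2g : x₂ * g = g * x₂ ^ 2)
    {α β γ : ℂ} {u : V} (h : Eig ρ z x₁ x₂ α β γ u) (k : ℕ) :
    Eig ρ z x₁ x₂ (α ^ 2 ^ k) (β ^ 4 ^ k) (γ ^ 2 ^ k) (ρ (g ^ k) u) := by
  induction k with
  | zero => simpa using h
  | succ k ih =>
    rw [pow_succ' g, map_mul, Module.End.mul_apply]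
    refine ⟨?_, ?_, ?_⟩
    · rw [pow_succ 2, pow_mul]
      exact shift ρ hzg (pow_apply ρ ih.1 2)
    · rw [pow_succ 4, pow_mul]
      exact shift ρ h1g (pow_apply ρ ih.2.1 4)
    · rw [pow_succ 2, pow_mul]
      exact shift ρ h2g (pow_apply ρ ih.2.2 2)

theorem pow_inj {α : ℂ} (h1 : α ≠ 1) (h5 : α ^ 5 = 1) {a b : ℕ} (h : α ^ a = α ^ b) : a % 5 = b % 5 := by
  have : Fact (Nat.Prime 5) := ⟨by norm_num⟩
  have ho : orderOf α = 5 := orderOf_eq_prime h5 h1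
  have hp : IsPrimitiveRoot α 5 := ho ▸ IsPrimitiveRoot.orderOf α
  rw [← pow_mod_orderOf α a, ← pow_mod_orderOf α b, ho] at h
  exact hp.pow_inj (Nat.mod_lt _ (by norm_num)) (Nat.mod_lt _ (by norm_num)) h

theorem four_inj : ∀ (k : Fin 4) (i i' : Fin 5), (i : ℕ) * 4 ^ (k : ℕ) % 5 = (i' : ℕ) * 4 ^ (k : ℕ) % 5 → i = i' := by
  decide

theorem two_inj : ∀ (k : Fin 4) (i i' : Fin 5), (i : ℕ) * 2 ^ (k : ℕ) % 5 = (i' : ℕ) * 2 ^ (k : ℕ) % 5 → i = i' := by
  decide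

/-- **The bound.** -/
theorem hundred_le {z g x₁ x₂ y₁ y₂ : G} (hz5 : z ^ 5 = 1) (hzg : z * g = g * z ^ 2) (h1g : x₁ * g = g * x₁ ^ 4)
    (h2g : x₂ * g = g * x₂ ^ 2) (h11 : x₁ * y₁ = y₁ * (x₁ * z)) (h22 : x₂ * y₂ = y₂ * (x₂ * z))
    (h12 : x₁ * y₂ = y₂ * x₁) (h21 : x₂ * y₁ = y₁ * x₂) (hxx : x₁ * x₂ = x₂ * x₁) (hz1 : z * x₁ = x₁ * z)
    (hz2 : z * x₂ = x₂ * z) (hz3 : z * y₁ = y₁ * z) (hz4 : z * y₂ = y₂ * z) (hne : ρ z ≠ 1) :
    100 ≤ finrank ℂ V := by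
  obtain ⟨α, β, γ, u, hu, hα1, hα5, hβ, hγ, hE⟩ := exists_Eig ρ hz5 hz1 hz2 hxx hne
  have hα0 : α ≠ 0 := by
    rintro rfl
    norm_num at hα5
  let v : Fin 4 × Fin 5 × Fin 5 → V := fun i =>
    ρ (g ^ (i.1 : ℕ)) (ρ (y₁ ^ (i.2.1 : ℕ)) (ρ (y₂ ^ (i.2.2 : ℕ)) u))
  have hv : ∀ i : Fin 4 × Fin 5 × Fin 5, Eig ρ z x₁ x₂ (α ^ 2 ^ (i.1 : ℕ)) ((β * α ^ (i.2.1 : ℕ)) ^ 4 ^ (i.1 : ℕ))
      ((γ * α ^ (i.2.2 : ℕ)) ^ 2 ^ (i.1 : ℕ)) (v i) := fun i =>
    (((hE.y₂ h22 h12 hz4 _).y₁ h11 h21 hz3 _).g hzg h1g h2g _)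
  let f : Fin 3 → V →ₗ[ℂ] V := ![ρ z, ρ x₁, ρ x₂]
  let l : Fin 4 × Fin 5 × Fin 5 → Fin 3 → ℂ := fun i =>
    ![α ^ 2 ^ (i.1 : ℕ), (β * α ^ (i.2.1 : ℕ)) ^ 4 ^ (i.1 : ℕ), (γ * α ^ (i.2.2 : ℕ)) ^ 2 ^ (i.1 : ℕ)]
  have hinj : ∀ (a : G) (w : V), w ≠ 0 → ρ a w ≠ 0 := by
    intro a w hw h
    apply hw
    have h1 : ρ a⁻¹ (ρ a w) = w := by
      rw [← Module.End.mul_apply, ← map_mul, inv_mul_cancel, map_one, Module.End.one_apply]
    rw [← h1, h, map_zero]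
  have hlin : LinearIndependent ℂ v := by
    refine H912.Bd.linInd_of_eigen f v (fun i => hinj _ _ (hinj _ _ (hinj _ _ hu))) l ?_ ?_
    · intro i x
      fin_cases x
      · exact (hv i).1
      · exact (hv i).2.1
      · exact (hv i).2.2
    · rintro ⟨k, i, j⟩ ⟨k', i', j'⟩ hne
      by_contra hcon
      push Not at hcon
      have h0 : α ^ 2 ^ (k : ℕ) = α ^ 2 ^ (k' : ℕ) := hcon 0
      have h1 : (β * α ^ (i : ℕ)) ^ 4 ^ (k : ℕ) = (β * α ^ (i' : ℕ)) ^ 4 ^ (k' : ℕ) := hcon 1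
      have h2 : (γ * α ^ (j : ℕ)) ^ 2 ^ (k : ℕ) = (γ * α ^ (j' : ℕ)) ^ 2 ^ (k' : ℕ) := hcon 2
      have hk : k = k' := by
        have h3 := pow_inj hα1 hα5 h0
        clear h0 h1 h2 hcon hne
        revert k k'
        decide
      subst hk
      rw [mul_pow, mul_pow] at h1 h2
      have h1 := mul_left_cancel₀ (pow_ne_zero _ hβ) h1
      have h2 := mul_left_cancel₀ (pow_ne_zero _ hγ) h2
      rw [← pow_mul, ← pow_mul] at h1 h2
      have h3 := pow_inj hα1 hα5 h1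
      have h4 := pow_inj hα1 hα5 h2
      apply hne
      rw [four_inj k i i' h3, two_inj k j j' h4]
  have h1 := hlin.fintype_card_le_finrank
  simpa using h1

end Cfsg.Agent.H655.HeisBound
end

-- part: H655/LyBound
section
/-!
# Faithful complex representations of the Lyons group have degree at least `100` (helper655)

`G₂(5) = ⟨a, b, c, d⟩ ≤ Ly` has a subgroup `5^{1+4} : 4`; the relations are checked in `GL₇(5)`.
-/

set_option autoImplicit false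
set_option maxRecDepth 100000

namespace Cfsg.Agent.H655.LyBound

open Module
open Cfsg.Agent.Ly.Mat7 Cfsg.Agent.Ly.Upper Cfsg.Agent.Ly.Index Cfsg.Agent.Ly.Pres Cfsg.Agent.Ly.WalkCtx
open Cfsg.Agent.Lib.PackMat Cfsg.Agent.Ly.Data111 Cfsg.Agent.Ly.Rep111 Cfsg.Agent.Ly.Final

/-- word in `a, b, c, d` -/
noncomputable def wd (l : List ℕ) : Cfsg.Spor.Ly := ev (X4 gens) l

theorem wd_append (l m : List ℕ) : wd (l ++ m) = wd l * wd m := ev_append _ _ _

theorem wd_eq {v w : List ℕ} (h : eqW v w = true) : wd v = wd w := data.wp v w h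

/-- power of a word -/
def pw (w : List ℕ) : ℕ → List ℕ
  | 0 => []
  | n + 1 => w ++ pw w n

theorem wd_pw (w : List ℕ) (n : ℕ) : wd (pw w n) = wd w ^ n := by
  induction n with
  | zero => rw [pow_zero]; rfl
  | succ n ih => rw [pw, wd_append, ih, pow_succ']

def z : List ℕ := [6, 4, 6, 0, 2, 4, 2, 0]
def g : List ℕ := [0, 1]
def x₁ : List ℕ := [2, 4, 6, 6, 0, 5, 6, 6, 1, 1, 6, 5, 4, 6, 0, 6, 4, 2, 0, 2, 4, 6, 0, 6, 4, 2, 0, 2]
def x₂ : List ℕ := [4, 2, 0, 5, 2, 1, 1, 6, 6, 5]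
def y₁ : List ℕ := [6, 6, 4, 2, 2, 0, 1, 2, 2, 5, 6, 4, 6, 0, 2, 4, 2, 0]
def y₂ : List ℕ := [2, 4, 2, 2, 0, 5, 6, 1, 1, 6, 5, 6, 4, 6, 0, 2, 4, 2, 0]

theorem ez5 : eqW (pw z 5) [] = true := by decide +kernel
theorem ezg : eqW (z ++ g) (g ++ pw z 2) = true := by decide +kernel
theorem e1g : eqW (x₁ ++ g) (g ++ pw x₁ 4) = true := by decide +kernel
theorem e2g : eqW (x₂ ++ g) (g ++ pw x₂ 2) = true := by decide +kernel
theorem e11 : eqW (x₁ ++ y₁) (y₁ ++ (x₁ ++ z)) = true := by decide +kernel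
theorem e22 : eqW (x₂ ++ y₂) (y₂ ++ (x₂ ++ z)) = true := by decide +kernel
theorem e12 : eqW (x₁ ++ y₂) (y₂ ++ x₁) = true := by decide +kernel
theorem e21 : eqW (x₂ ++ y₁) (y₁ ++ x₂) = true := by decide +kernel
theorem exx : eqW (x₁ ++ x₂) (x₂ ++ x₁) = true := by decide +kernel
theorem ez1 : eqW (z ++ x₁) (x₁ ++ z) = true := by decide +kernel
theorem ez2 : eqW (z ++ x₂) (x₂ ++ z) = true := by decide +kernel
theorem ez3 : eqW (z ++ y₁) (y₁ ++ z) = true := by decide +kernel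
theorem ez4 : eqW (z ++ y₂) (y₂ ++ z) = true := by decide +kernel

/-- the word `z` in the letters of the presentation -/
def zw : List (Fin 5 × Bool) := [(2, false), (0, false), (2, false), (0, true), (2, true), (0, false), (2, true), (0, true)]

theorem el_zw : el zw = wd z := by
  rw [el, FreeGroup.lift_mk]
  rfl

theorem cz : Nat.beq (run C (zw.map code) (unitRow C 1 0)) (unitRow C 1 0) = false := by decide +kernel

theorem z_ne : wd z ≠ 1 := by
  intro h0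
  have h : word zw = 1 := by rw [← rho_el, el_zw, h0, map_one]
  have hv : OkR C (unitRow C 1 0) := (unitRow_ok (good_of_check good) (by decide) (by decide)).1
  obtain ⟨h1, h2⟩ := run_spec (good_of_check good) (zw.map code) (ok_map _) hv
  have h3 : ((zw.map code).map (mat C)).prod = 1 := by
    rw [← coe_word, h]
    rfl
  rw [h3, Matrix.vecMul_one] at h2
  have h4 := rowVec_injOn h1 hv h2
  have h5 := cz
  rw [h4, Nat.beq_refl] at h5
  exact absurd h5 (by simp)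

/-- **Degrees of the faithful representations of the Lyons group.** -/
theorem hundred_le {V : Type*} [AddCommGroup V] [Module ℂ V] [FiniteDimensional ℂ V]
    (ρ : Representation ℂ Cfsg.Spor.Ly V) (hρ : Function.Injective ρ) : 100 ≤ finrank ℂ V := by
  have h : ∀ {v w : List ℕ}, eqW v w = true → wd v = wd w := fun h => wd_eq h
  have hz5 := h ez5
  have hzg := h ezg
  have h1g := h e1g
  have h2g := h e2g
  have h11 := h e11
  have h22 := h e22
  have h12 := h e12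
  have h21 := h e21
  have hxx := h exx
  have hz1 := h ez1
  have hz2 := h ez2
  have hz3 := h ez3
  have hz4 := h ez4
  simp only [wd_append, wd_pw] at hz5 hzg h1g h2g h11 h22 h12 h21 hxx hz1 hz2 hz3 hz4
  refine HeisBound.hundred_le (ρ := ρ) hz5 hzg h1g h2g h11 h22 h12 h21 hxx hz1 hz2 hz3 hz4 ?_
  intro h1
  exact z_ne (hρ (by rw [h1, map_one]))

/-- **Perfect groups `M` with `M / Z(M) ≅ Ly`.** -/
theorem hundred_le_of_quotient {M : Type*} [Group M] [Finite M] (hperf : commutator M = ⊤)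
    (h : Spor.IsoLy (M ⧸ Subgroup.center M)) {V : Type*} [AddCommGroup V] [Module ℂ V] [FiniteDimensional ℂ V]
    (ρ : Representation ℂ M V) (hρ : Function.Injective ρ) : 100 ≤ finrank ℂ V := by
  obtain ⟨e⟩ := h
  let π : M →* Cfsg.Spor.Ly := e.toMonoidHom.comp (QuotientGroup.mk' (Subgroup.center M))
  have hs : Function.Surjective π := e.surjective.comp (QuotientGroup.mk'_surjective _)
  have hk : π.ker ≤ Subgroup.center M := by
    intro x hx
    have h1 : e ((QuotientGroup.mk' (Subgroup.center M)) x) = 1 := hx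
    rwa [MulEquiv.map_eq_one_iff, QuotientGroup.mk'_apply, QuotientGroup.eq_one_iff] at h1
  have h2 := H264.CoverOver.card_ker_dvd S2050.result hperf π hs hk
  rw [Nat.card_congr (Multiplicative.toAdd (α := ZMod 1)), Nat.card_zmod] at h2
  have h3 : π.ker = ⊥ := Subgroup.card_eq_one.1 (Nat.dvd_one.1 h2)
  let e' : M ≃* Cfsg.Spor.Ly := MulEquiv.ofBijective π ⟨(MonoidHom.ker_eq_bot_iff π).1 h3, hs⟩
  let ρ' : Representation ℂ Cfsg.Spor.Ly V := MonoidHom.comp ρ e'.symm.toMonoidHom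
  exact hundred_le ρ' (hρ.comp e'.symm.injective)

end Cfsg.Agent.H655.LyBound
end

private theorem dce_31d376df1f4f : _root_.True := by
  try have : _root_.True := by simp only [_root_.Cfsg.Agent.H655.HeisBound.eigSub.eq_1]
  try have : _root_.True := by simp only [_root_.Cfsg.Agent.H655.LyBound.pw.eq_2]
  try have : _root_.True := by simp only [_root_.Cfsg.Agent.H655.LyBound.pw.eq_def]
  try have : _root_.True := by simp only [_root_.Cfsg.Agent.Ly.Final.el.eq_1]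
  try have : _root_.True := by simp only [_root_.Cfsg.Agent.H655.LyBound.pw.eq_1]
  exact _root_.True.intro
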