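import Cfsg.Agent.H979.LieSplit
import Cfsg.Agent.H163.Steinberg
import Cfsg.Agent.H167.HasSt
import Cfsg.Prelude.Def_LieTypeChar
import Cfsg.Agent.Prune
set_option linter.all false
prune_inst 0x7f00000000000000000000000000000000000000000000000000000000000000000000000000000000000000000000000000000000000000000000000000000000000000000000000000000000000000003fffffffffffffffffffffffffffbeffbdffffffff
open scoped Cfsg.Agent.FastGrp

/-!
# Steinberg characters of the simple groups of Lie type (helper655)
-/

set_option autoImplicit false

namespace Cfsg.Agent.H655.StProv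

open Cfsg

universe u

theorem hasSt {S : Type u} [Group S] [Finite S] [IsSimpleGroup S] (r : ℕ) (hr : r.Prime) (h : IsLieTypeChar r S) :
    H167.StChar.HasSt r S := by
  have := Fact.mk hr
  rw [H167.StChar.hasSt_iff]
  exact H163.Steinberg.exists_irr_of_hasSplit (H979.LieSplit.hasSplit_of_isLieTypeChar hr h)

end Cfsg.Agent.H655.StProv
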