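import Cfsg.Agent.H655.SubTwo_m3
import Cfsg.Agent.H655.LyBound
import Cfsg.Agent.Prune
set_option linter.all false
prune_inst 0x7f00000000000000000000000000000000000000000000000000000000000000000000000000000000000000000000000000000000000000000000000000000000000000000000000000000000000000003fffffffffffffffffffffffffffbeffbdffffffff
open scoped Cfsg.Agent.FastGrp

-- part: H655/MinusBig
section
/-!
# The minus case with at least three classes of elements of order `p` (helper655)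
-/

set_option autoImplicit false
set_option linter.unusedSectionVars false

namespace Cfsg.Agent.H655.MinusBig

open Cfsg Subgroup
open Cfsg.Agent.OrdDiv (OrderTable Real Grp)
open Cfsg.Agent.H167.StChar (HasSt)
open Cfsg.Agent.H655.Cases Cfsg.Agent.H655.Numbers Cfsg.Agent.H655.Elim Cfsg.Agent.H655.Spor

universe u

variable {M : Type u} [Group M] [Finite M] {p E t : ℕ}

theorem two_mul_ne {S : Type u} [Group S] (h : Num S p E t) (ht : 3 ≤ t) : 2 * E ≠ p - 1 := by
  intro h1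
  have h2 := h.het
  have h3 := h.two_le_E
  rw [← h1, mul_comm 2] at h2
  have := Nat.eq_of_mul_eq_mul_left (by omega) h2
  omega

theorem not_primePow_6 {r f : ℕ} (hr : r.Prime) (h : 6 = r ^ f) : False := by
  have h3 : 2 ∣ r ^ f := h ▸ by norm_num
  have h5 : 3 ∣ r ^ f := h ▸ by norm_num
  have h6 := (Nat.prime_dvd_prime_iff_eq Nat.prime_two hr).1 (Nat.prime_two.dvd_of_dvd_pow h3)
  have h7 := (Nat.prime_dvd_prime_iff_eq Nat.prime_three hr).1 (Nat.prime_three.dvd_of_dvd_pow h5)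
  omega

theorem not_psl2 (h : Num (M ⧸ center M) p E t) (hp11 : 11 ≤ p) (ht : 3 ≤ t) (hE : E ≠ 2) {q r f : ℕ} (hq4 : 4 ≤ q)
    (hr : r.Prime) (hf : 1 ≤ f) (hq : q = r ^ f) (hst : HasSt r (M ⧸ center M))
    (hc : Nat.gcd 2 (q - 1) * Nat.card (M ⧸ center M) = q * (q ^ 2 - 1))
    (hb : q ≠ 4 → q ≠ 9 → (q - 1) / Nat.gcd 2 (q - 1) ≤ p - E) : False := by
  have hE2 := h.two_le_E
  have hEle := E_le h
  rcases psl2 h hq4 hr hf hq hst hc with ⟨-, h1⟩ | ⟨-, -, m, h1, h2⟩
  · exact two_mul_ne h ht h1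
  · have hm0 : m ≠ 0 := by
      rintro rfl
      omega
    have hm1 : 1 ≤ m := by omega
    have hpm : p * 1 ≤ p * m := Nat.mul_le_mul_left _ hm1
    have hb' := hb (by omega) (by omega)
    have hg : Nat.gcd 2 (q - 1) = 1 ∨ Nat.gcd 2 (q - 1) = 2 := (Nat.dvd_prime Nat.prime_two).1 (Nat.gcd_dvd_left _ _)
    have hm : m = 1 := by
      by_contra hne
      have : p * 2 ≤ p * m := Nat.mul_le_mul_left _ (by omega)
      rcases hg with hg | hg
      · rw [hg, Nat.div_one] at hb'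
        omega
      · rw [hg] at hb'
        omega
    subst hm
    rcases hg with hg | hg
    · rw [hg] at h2
      omega
    · rw [hg] at h2
      omega

theorem not_psl3 (h : Num (M ⧸ center M) p E t) (hp11 : 11 ≤ p) {q r f : ℕ}
    (hr : r.Prime) (hf : 1 ≤ f) (hq : q = r ^ f) (hst : HasSt r (M ⧸ center M))
    (hc : Nat.gcd 3 (q - 1) * Nat.card (M ⧸ center M) = q ^ 3 * ((q ^ 2 - 1) * (q ^ 3 - 1)))
    (hb : q ≠ 4 → q ≠ 2 → q ^ 2 - 1 ≤ p - E) : False := by
  have hp := h.prime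
  have hE2 := h.two_le_E
  have hEle := E_le h
  have hq2 : 2 ≤ q := by
    rw [hq]
    exact hr.two_le.trans (Nat.le_self_pow (by omega) r)
  obtain ⟨-, m, h1, h2⟩ := psl3 h hr hf hq hst hc
  have hm0 : m ≠ 0 := by
    rintro rfl
    simp at h1
  have h4 : q ≠ 4 := by
    rintro rfl
    norm_num at h1
    have h3 : p ∣ 3 * 7 := ⟨m, h1.symm⟩
    rcases hp.dvd_mul.1 h3 with h4 | h4
    · have := Nat.le_of_dvd (by norm_num) h4
      omega
    · have := Nat.le_of_dvd (by norm_num) h4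
      omega
  have h5 : q ≠ 2 := by
    rintro rfl
    norm_num at h1
    have := Nat.le_of_dvd (by norm_num) (Dvd.intro _ h1)
    omega
  have hb' := hb h4 h5
  have hqq : q + q ≤ q ^ 2 := by nlinarith
  have hm : m = 1 := by
    by_contra hne
    have : p * 2 ≤ p * m := Nat.mul_le_mul_left _ (by omega)
    omega
  subst hm
  have hg : Nat.gcd 3 (q - 1) = 1 := by
    rcases (Nat.dvd_prime Nat.prime_three).1 (Nat.gcd_dvd_left 3 (q - 1)) with hg | hg
    · exact hg
    · rw [hg] at h2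
      omega
  rw [hg, one_mul, mul_one] at h2
  rw [mul_one] at h1
  rw [hg, one_mul] at hc
  have hd := h.dvd
  rw [hc, h2] at hd
  have hfac : p - 3 = (q - 1) * (q + 2) := by
    rw [h1]
    obtain ⟨x, rfl⟩ : ∃ x, q = x + 2 := ⟨q - 2, by omega⟩
    have h6 : x + 2 - 1 = x + 1 := by omega
    rw [h6]
    have h7 : (x + 2) ^ 2 + (x + 2) + 1 = (x + 1) * (x + 2 + 2) + 3 := by ring
    omega
  have hfac2 : q ^ 3 * ((q ^ 2 - 1) * (q ^ 3 - 1)) = (q - 1) * (q ^ 3 * (q - 1) * (q + 1) * (q ^ 2 + q + 1)) := by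
    have h6 : 1 ≤ q ^ 2 := Nat.one_le_pow _ _ (by omega)
    have h7 : 1 ≤ q ^ 3 := Nat.one_le_pow _ _ (by omega)
    have h8 : 1 ≤ q := by omega
    zify [h6, h7, h8]
    ring
  rw [hfac, hfac2] at hd
  have hd2 := Nat.dvd_of_mul_dvd_mul_left (by omega) hd
  have hd3 : q + 2 ∣ 72 := by
    zify at hd2 ⊢
    rw [Nat.cast_sub (show 1 ≤ q by omega)] at hd2
    have h6 : (q : ℤ) ^ 3 * ((q : ℤ) - (1 : ℕ)) * (q + 1) * (q ^ 2 + q + 1) + 72 =
        (q + 2) * ((q : ℤ) ^ 6 - q ^ 5 + 2 * q ^ 4 - 5 * q ^ 3 + 9 * q ^ 2 - 18 * q + 36) := by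
      push_cast
      ring
    exact (dvd_add_right hd2).1 (h6 ▸ dvd_mul_right _ _)
  have hle := Nat.le_of_dvd (by norm_num) hd3
  have h6 : ∀ q < 71, 2 ≤ q → q + 2 ∣ 72 → Nat.gcd 3 (q - 1) = 1 → q = 2 ∨ q = 6 := by decide
  rcases h6 q (by omega) hq2 hd3 hg with h7 | h7
  · exact h5 h7
  · exact not_primePow_6 hr (h7 ▸ hq)

theorem not_psu3 (h : Num (M ⧸ center M) p E t) {q r f : ℕ} (hq3 : 3 ≤ q) (hr : r.Prime) (hf : 1 ≤ f)
    (hq : q = r ^ f) (hst : HasSt r (M ⧸ center M))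
    (hc : Nat.gcd 3 (q + 1) * Nat.card (M ⧸ center M) = q ^ 3 * ((q ^ 2 - 1) * (q ^ 3 + 1)))
    (hb : (q - 1) * q ≤ p - E) : False := by
  have hE2 := h.two_le_E
  have hEle := E_le h
  obtain ⟨-, m, h1, h2⟩ := psu3 h hq3 hr hf hq hst hc
  have hm0 : m ≠ 0 := by
    rintro rfl
    simp at h1
  have hpm : p * 1 ≤ p * m := Nat.mul_le_mul_left _ (by omega)
  rw [Nat.sub_mul, one_mul, ← sq] at hb
  omega

theorem minus_big (T : OrderTable.{u}) (hperf : commutator M = ⊤) (hS : IsKnownSimple' (M ⧸ center M))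
    (hna : ¬ ∀ a b : M ⧸ center M, a * b = b * a)
    (hSt : ∀ r : ℕ, r.Prime → IsLieTypeChar r (M ⧸ center M) → HasSt r (M ⧸ center M))
    (ρ : Representation ℂ M (Fin (p - E) → ℂ)) (hρ : Function.Injective ρ) (h : Num (M ⧸ center M) p E t)
    (hp11 : 11 ≤ p) (ht : 3 ≤ t) : E = 2 ∨ (Real .ly (M ⧸ center M) ∧ p = 67 ∧ E = 22) := by
  by_cases hE : E = 2
  · exact Or.inl hE
  right
  cases Cases.cases T hS hna hSt with
  | alt n hn e =>
    obtain ⟨e⟩ := e
    exact absurd (Spor.alt h hn e).1 (two_mul_ne h ht)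
  | spor x hx hr hc =>
    have h1 := mem_surv h (by omega) hx hc
    have h2 := ly_of_t _ h1 (two_mul_ne h ht)
    simp only [Prod.mk.injEq] at h2
    exact ⟨h2.1 ▸ hr, h2.2.1, h2.2.2⟩
  | psl2 F instF instFF hF r f hr hf hq hch st e hc =>
    exact (not_psl2 h hp11 ht hE hF hr hf hq st hc fun h4 h9 => PRUse.psl2_le hperf ρ hρ hr hch hF h4 h9 e).elim
  | psl3 F instF instFF r f hr hf hq hch st e hc =>
    exact (not_psl3 h hp11 hr hf hq st hc fun h4 h9 => PRUse.psl3_le hperf ρ hρ hr hch h4 h9 e).elim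
  | psu3 F instF instFF q r f hq3 hr hf hq hF hch st e hc =>
    exact (not_psu3 h hq3 hr hf hq st hc (PRUse.psu3_le hperf ρ hρ hr hch hF hq3 e)).elim
  | sz F instF instFF m hm hF st e hc => exact (not_sz h hm st hc).elim
  | big r q N hb => exact (not_big h hb).elim

end Cfsg.Agent.H655.MinusBig
end

-- part: H655/MainTheorem
section
/-!
# Faithful irreducible characters of degree less than `p - 1` (helper655)

`main` : `|P| = p > 7`, `P` not normal: `G / Z(G) ≅ PSL₂(p)` and the degree is `(p ± 1) / 2`, or the degree is `p - 2`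
and `|N(P) : C(P)| = 2`.
-/

set_option autoImplicit false
open Cfsg

namespace Cfsg.Agent.H655.MainTheorem

open Subgroup
open Cfsg.Agent.Characters.Core
open Cfsg.Agent.SmallSimple.PrimeDual Cfsg.Agent.SmallSimple.ThetaSetup
open Cfsg.Agent.SmallSimple.ThetaOrtho Cfsg.Agent.SmallSimple.ThetaGroup
open Cfsg.Agent.SmallSimple.ThetaCount Cfsg.Agent.SmallSimple.TheoremC
open Cfsg.Agent.SmallSimple.TheoremCCor
open Cfsg.Agent.H655.Basic Cfsg.Agent.H655.Closure Cfsg.Agent.H655.Dichotomy Cfsg.Agent.H655.MinusMain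

universe u

variable {G : Type u} [Group G] [Finite G] {p : ℕ} [Fact p.Prime] {P : Sylow p G}

/-- **The main theorem.** -/
theorem main (hS : ∀ (X : Type u) [Group X] [Finite X] [IsSimpleGroup X], IsKnownSimple' X)
    (hp7 : 7 < p) (hP : Nat.card P = p) (hnn : ¬ (P : Subgroup G).Normal) {ζ : IrrCharacter G}
    (hfaith : ∀ g : G, (ζ : G → ℂ) g = (ζ : G → ℂ) 1 → g = 1) {n : ℕ} (hn : (ζ : G → ℂ) 1 = n) (hlt : n < p - 1) :
    ∃ E t : ℕ, E * t = p - 1 ∧
      (centralizer ((P : Subgroup G) : Set G)).relIndex (normalizer ((P : Subgroup G) : Set G)) = E ∧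
      ((t = 2 ∧ (2 * n = p + 1 ∨ 2 * n = p - 1) ∧
        Nonempty (G ⧸ center G ≃* Matrix.ProjectiveSpecialLinearGroup (Fin 2) (ZMod p))) ∨ (E = 2 ∧ n = p - 2)) := by
  have hp : p.Prime := Fact.out
  have hp11 : 11 ≤ p := by
    by_contra hlt
    have h1 : p = 8 ∨ p = 9 ∨ p = 10 := by omega
    rcases h1 with rfl | rfl | rfl <;> revert hp <;> norm_num
  obtain ⟨K, hK⟩ := exists_isComp P hP
  rcases dichotomy hK hP hn hlt with h | ⟨E, t, h | h⟩
  · exfalso
    obtain ⟨x, hx, hx1⟩ := Closure.exists_ne_one hP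
    exact hx1 (hfaith x (h x hx))
  · refine ⟨E, t, h.het, h.relIndex, ?_⟩
    have hnE : n = p - E := by
      have h1 := hn.symm.trans h.deg
      exact_mod_cast h1
    have het := h.het
    have ht2 := h.two_le
    rcases (show t = 2 ∨ 3 ≤ t by omega) with ht | ht
    · subst ht
      exact Or.inl ⟨rfl, Or.inl (by omega), MinusTwo.minus_two hp11 hP hnn hfaith hK h⟩
    · right
      obtain ⟨hperf, hsimple, hsup, hnum⟩ := minus_main hP hnn hfaith hK h
      have := hsimple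
      have hna := not_commutative hperf (center (normalClosure ((P : Subgroup G) : Set G)))
      obtain ⟨n', ρ, -, hρ, -, hn'⟩ := exists_rep ζ.2 hfaith
      obtain rfl : n' = n := by exact_mod_cast hn'.symm.trans hn
      subst hnE
      let ρ' : Representation ℂ (normalClosure ((P : Subgroup G) : Set G)) (Fin (p - E) → ℂ) :=
        MonoidHom.comp ρ (Subgroup.subtype _)
      have hρ' : Function.Injective ρ' := hρ.comp (Subgroup.subtype_injective _)
      rcases MinusBig.minus_big OrdDiv.table hperf (hS _) hna (fun r hr h => StProv.hasSt r hr h) ρ' hρ' hnum hp11 ht with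
        hE | ⟨hly, h67, h22⟩
      · exact ⟨hE, by rw [hE]⟩
      · exfalso
        have h1 := LyBound.hundred_le_of_quotient hperf hly ρ' hρ'
        rw [Module.finrank_fin_fun] at h1
        omega
  · obtain ⟨h1, h2, h3, h4⟩ := PlusMain.plus_main (by omega) hP hnn hfaith hn (by omega) h
    exact ⟨E, t, h.het, h.relIndex, Or.inl ⟨h2, Or.inr h3, h4⟩⟩

/-- The form with a field of order `p`. -/
theorem exists_field {X : Type u} [Group X]
    (h : Nonempty (X ≃* Matrix.ProjectiveSpecialLinearGroup (Fin 2) (ZMod p))) :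
    ∃ (F : Type) (_ : Field F) (_ : Fintype F), Fintype.card F = p ∧
      Nonempty (X ≃* Matrix.ProjectiveSpecialLinearGroup (Fin 2) F) :=
  ⟨ZMod p, inferInstance, inferInstance, ZMod.card p, h⟩

/-- S4703 -/
theorem s4703 (hS : ∀ (X : Type u) [Group X] [Finite X] [IsSimpleGroup X], IsKnownSimple' X)
    (hp : 7 < p) (P : Sylow p G) (hP : Nat.card P = p) (hnn : ¬ (P : Subgroup G).Normal) (ζ : G → ℂ)
    (hζ : Cfsg.IsIrrCharacter G ζ) (hfaith : ∀ g : G, ζ g = ζ 1 → g = 1) :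
    ((∃ (F : Type) (_ : Field F) (_ : Fintype F), Fintype.card F = p ∧
        Nonempty (G ⧸ Subgroup.center G ≃* Matrix.ProjectiveSpecialLinearGroup (Fin 2) F)) ∧
      (2 * Cfsg.charDegree ζ = p + 1 ∨ 2 * Cfsg.charDegree ζ = p - 1)) ∨ p - 2 ≤ Cfsg.charDegree ζ := by
  obtain ⟨n, -, hn⟩ := isIrr_apply_one hζ
  have hd : Cfsg.charDegree ζ = n := by
    unfold Cfsg.charDegree
    rw [hn]
    simp
  rw [hd]
  by_cases hlt : n < p - 1
  · obtain ⟨E, t, -, -, ⟨-, h1, h2⟩ | ⟨-, h1⟩⟩ := main (ζ := ⟨ζ, hζ⟩) hS hp hP hnn hfaith hn hlt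
    · exact Or.inl ⟨exists_field h2, h1⟩
    · exact Or.inr h1.ge
  · right
    omega

end Cfsg.Agent.H655.MainTheorem
end
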